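import Groth.Agent.AbVar.K613.EtMain
import Groth.Agent.AbVar.K511.HT.Iface
import Groth.Agent.Sga3C.DimTop

/-!
# Node (ET) of the Honda-Tate project in the form of the interface
-/

set_option autoImplicit false

universe u

open CategoryTheory CategoryTheory.Limits MonoidalCategory CartesianMonoidalCategory MonObj AlgebraicGeometry

namespace K613.EtIface

open K613.EtLift K613.EtGrp K613.EtMain IsLocalRing

theorem henselian (A : Type u) [CommRing A] [IsLocalRing A] [IsAdicComplete (maximalIdeal A) A] :
    HenselianLocalRing A where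
  is_henselian f hf a₀ h1 h2 := by
    have : HenselianRing A (maximalIdeal A) := inferInstance
    exact HenselianRing.is_henselian f hf a₀ h1 (h2.map _)

theorem dim_fiber {S : Scheme.{u}} {A M : Over S} (q : A ⟶ M) [IsFinite q.left] [Surjective q.left] (s : S) :
    topologicalKrullDim (A.hom.fiber s) = topologicalKrullDim (M.hom.fiber s) := by
  let P := pullback q.left (M.hom.fiberι s)
  have hP : IsPullback (pullback.fst q.left (M.hom.fiberι s)) (pullback.snd q.left (M.hom.fiberι s)) q.left
    (M.hom.fiberι s) := IsPullback.of_hasPullback _ _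
  have h0 : IsPullback (M.hom.fiberι s) (M.hom.fiberToSpecResidueField s) M.hom (S.fromSpecResidueField s) :=
    IsPullback.of_hasPullback _ _
  have h1 := hP.paste_vert h0
  rw [Over.w] at h1
  have h2 : IsPullback (A.hom.fiberι s) (A.hom.fiberToSpecResidueField s) A.hom (S.fromSpecResidueField s) :=
    IsPullback.of_hasPullback _ _
  let e : P ≅ A.hom.fiber s := h1.isoIsPullback _ _ h2
  have h3 := Groth.Agent.Sga3C.DimTop.topologicalKrullDim_eq_of_isIntegralHom
    (pullback.snd q.left (M.hom.fiberι s))
  rw [← h3]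
  exact (IsHomeomorph.topologicalKrullDim_eq _ (Scheme.homeoOfIso e).isHomeomorph).symm

theorem main : K511.HT.ET.{u} := by
  intro W _ _ _ _ A _ _ g hA m hm v₀ w₀ h1 h2
  have hs := hA.smooth
  have hp := hA.proper
  have hc := hA.geomConnected
  have hW : HenselianLocalRing W := henselian W
  have hw : w₀.toHom ≫ v₀.toHom = (𝟙 (Red.bc (cp W) A)) ^ m := by
    have h := congrArg EndAV.End.toHom h1
    rwa [EndAV.End.toHom_mul, EndAV.End.toHom_natCast] at h
  have hv : v₀.toHom ≫ w₀.toHom = (𝟙 (Red.bc (cp W) A)) ^ m := by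
    have h := congrArg EndAV.End.toHom h2
    rwa [EndAV.End.toHom_mul, EndAV.End.toHom_natCast] at h
  obtain ⟨X, hX, v, w, e, k1, k2, k3, k4, k5, k6, k7, k8, k9, k10, k11, k12, k13⟩ :=
    K613.EtMain.main A (Red.bc (cp W) A) w₀.toHom v₀.toHom m hm hv hw
  have hXc : IsCommMonObj X := isCommMonObj_of_smooth X
  refine ⟨X, hX, hXc, ⟨k4, k5, k6, fun s => (dim_fiber w s).trans (hA.fibreDim s)⟩, EndAV.Hom.of v,
    EndAV.Hom.of w, e, k3, ?_, ?_, ?_, ?_⟩
  · apply EndAV.End.ext
    rw [EndAV.End.toHom_natCast]
    exact k7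
  · apply EndAV.End.ext
    rw [EndAV.End.toHom_natCast]
    exact k8
  · change (Over.pullback (cp W)).map v ≫ e.hom = v₀.toHom
    rw [k9, Category.assoc, Iso.inv_hom_id, Category.comp_id]
  · exact k10

end K613.EtIface
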