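import Groth.Agent.AbVar.K613.EmbNum
import Groth.Agent.AbVar.K229.SumSq
import Groth.Agent.AbVar.K511.HT.Iface2
import Mathlib.FieldTheory.SplittingField.Construction

/-!
# Node (EMB) of the Honda-Tate project
-/

set_option autoImplicit false

universe u

namespace K613.EmbMain

open Ideal IsLocalRing K613.EmbLoc K613.EmbNum K511.HT
open scoped NumberField

theorem henselian (A : Type u) [CommRing A] [IsLocalRing A] [IsAdicComplete (maximalIdeal A) A] :
    HenselianLocalRing A where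
  is_henselian f hf a₀ h1 h2 := by
    have : HenselianRing A (maximalIdeal A) := inferInstance
    exact HenselianRing.is_henselian f hf a₀ h1 (h2.map _)

theorem isUnit_two {r : ℕ} (hr4 : r % 4 = 3) {W : Type u} [CommRing W] [IsLocalRing W]
    (hrW : (r : W) ∈ maximalIdeal W) : IsUnit (2 : W) := by
  by_contra h
  have h2 : (2 : W) ∈ maximalIdeal W := (mem_maximalIdeal _).2 h
  obtain ⟨k, hk⟩ : ∃ k, r = 2 * k + 1 := ⟨r / 2, by omega⟩
  have h1 : (1 : W) ∈ maximalIdeal W := by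
    have h3 : (1 : W) = (r : W) - 2 * k := by rw [hk]; push_cast; ring
    rw [h3]
    exact sub_mem hrW (Ideal.mul_mem_right _ _ h2)
  exact (maximalIdeal.isMaximal W).ne_top ((Ideal.eq_top_iff_one _).2 h1)

section

variable {F : Type} [Field F] [NumberField F] {r : ℕ} {d : 𝓞 F} {W : Type u} [CommRing W] [IsDomain W]
  [IsLocalRing W] [CharZero W]

omit [IsDomain W] [CharZero W] in
/-- The centre of a homomorphism. -/
theorem centre (hrW : (r : W) ∈ maximalIdeal W) (hr : r.Prime) (φ : 𝓞 F →+* W) :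
    ((maximalIdeal W).comap φ).IsMaximal ∧ (r : 𝓞 F) ∈ (maximalIdeal W).comap φ := by
  have h1 : (r : 𝓞 F) ∈ (maximalIdeal W).comap φ := by
    rw [Ideal.mem_comap, map_natCast]
    exact hrW
  refine ⟨Ideal.IsPrime.isMaximal inferInstance ?_, h1⟩
  intro h
  rw [h, Ideal.mem_bot] at h1
  exact hr.ne_zero (by exact_mod_cast h1)

variable [IsAdicComplete (maximalIdeal W) W]

theorem exists_sqrt (G : Good F d r) (hrW : (r : W) ∈ maximalIdeal W) (φ : 𝓞 F →+* W) : ∃ τ : W, τ ^ 2 = φ d := by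
  have hH : HenselianLocalRing W := henselian W
  obtain ⟨h1, h2⟩ := centre hrW G.prime φ
  obtain ⟨s, hs⟩ := G.sq _ h1 h2
  rw [Ideal.mem_comap, map_sub, map_pow] at hs
  refine K229.SumSq.exists_sqrt (φ d) (φ s) (isUnit_two G.mod4 hrW) ?_ hs
  by_contra h
  have h3 : φ s ∈ maximalIdeal W := (mem_maximalIdeal _).2 h
  refine G.unit _ h1 h2 ?_
  rw [Ideal.mem_comap]
  have h4 : φ d = φ s ^ 2 - (φ s ^ 2 - φ d) := by ring
  rw [h4]
  exact sub_mem (Ideal.pow_mem_of_mem _ h3 2 two_pos) hs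

omit [IsAdicComplete (maximalIdeal W) W] in
theorem exists_approx (G : Good F d r) (hrW : (r : W) ∈ maximalIdeal W) (φ : 𝓞 F →+* W) (t : W) (ht : t ^ 2 = φ d) :
    ∃ h : 𝓞 F, t - φ h ∈ maximalIdeal W := by
  obtain ⟨h1, h2⟩ := centre hrW G.prime φ
  obtain ⟨s, hs⟩ := G.sq _ h1 h2
  rw [Ideal.mem_comap, map_sub, map_pow, ← ht] at hs
  have h3 : (t - φ s) * (t + φ s) ∈ maximalIdeal W := by
    have h4 : (t - φ s) * (t + φ s) = -(φ s ^ 2 - t ^ 2) := by ring
    rw [h4]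
    exact neg_mem hs
  rcases (inferInstance : (maximalIdeal W).IsPrime).mem_or_mem h3 with h | h
  · exact ⟨s, h⟩
  · exact ⟨-s, by rwa [map_neg, sub_neg_eq_add]⟩

end

theorem main : K511.HT.EMB.{u} := by
  intro F _ _ _ d hd r G L _ _ _ s c hs hcs hcF hdim hgen W _ _ _ _ _ hmax hcard iW hiW
  classical
  have GS : Split F r := ⟨G.prime, G.norm, G.unram⟩
  have hrW : (r : W) ∈ maximalIdeal W := by
    rw [hmax]
    exact Ideal.mem_span_singleton_self _
  let K := FractionRing W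
  have hK : CharZero K := charZero_of_injective_algebraMap (IsFractionRing.injective W K)
  let Ω := AlgebraicClosure K
  -- values at `s`
  have hsval : ∀ {E : Type u} [Field E] [Algebra K E] (σ : L →+* E) (φ₀ : 𝓞 F →+* W),
      (∀ a : 𝓞 F, σ (algebraMap F L a) = algebraMap K E (algebraMap W K (φ₀ a))) →
      ∃ t : W, t ^ 2 = φ₀ d ∧ σ s = algebraMap K E (algebraMap W K (t * iW)) := by
    intro E _ _ σ φ₀ h
    obtain ⟨τ, hτ⟩ := exists_sqrt G hrW φ₀
    have h1 : σ s ^ 2 = algebraMap K E (algebraMap W K (τ * iW)) ^ 2 := by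
      rw [← map_pow, hs, map_neg, h, ← hτ, ← map_pow, ← map_pow, mul_pow, hiW, mul_neg, mul_one, map_neg, map_neg]
    rcases sq_eq_sq_iff_eq_or_eq_neg.1 h1 with h2 | h2
    · exact ⟨τ, hτ, h2⟩
    · exact ⟨-τ, by rw [neg_sq, hτ], by rw [h2, neg_mul, map_neg, map_neg]⟩
  have hrange : ∀ (σ : L →+* Ω) (x : L), σ x ∈ (algebraMap K Ω).range := by
    intro σ x
    obtain ⟨φ₀, hφ₀⟩ := exists_of_embedding (K := K) GS hrW Ω (σ.comp (algebraMap F L))
    have h1 : ∀ a : F, σ (algebraMap F L a) = algebraMap K Ω (toK K φ₀ a) := fun a =>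
      congrArg (fun χ : F →+* Ω => χ a) hφ₀
    obtain ⟨t, -, ht⟩ := hsval σ φ₀ fun a => by rw [h1, toK_algebraMap]
    obtain ⟨a, b, rfl⟩ := hgen x
    rw [map_add, map_mul, h1, h1, ht, ← map_mul, ← map_add]
    exact ⟨_, rfl⟩
  let pb := Field.powerBasisOfFiniteOfSeparable ℚ L
  let P := minpoly ℚ pb.gen
  let ε : P.SplittingField →ₐ[ℚ] K := Polynomial.SplittingField.lift P (splits_of_range hrange pb.gen)
  refine ⟨P.SplittingField, inferInstance, { to_charZero := inferInstance, to_finiteDimensional := inferInstance }, ε, ?_, ?_⟩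
  · have hc := AlgHom.natCard_of_powerBasis (L := P.SplittingField) pb (Algebra.IsSeparable.isSeparable _ _)
      (Polynomial.SplittingField.splits P)
    rw [← pb.finrank] at hc
    rw [← hc]
    have hcomm : ∀ (f : L →+* P.SplittingField) (q : ℚ), f (algebraMap ℚ L q) =
        algebraMap ℚ P.SplittingField q := fun f q => by
      rw [eq_ratCast, eq_ratCast]
      exact map_ratCast f q
    exact Nat.card_congr
      { toFun := fun f => AlgHom.mk f (hcomm f)
        invFun := fun f => f.toRingHom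
        left_inv := fun f => rfl
        right_inv := fun f => rfl }
  intro Φ hΦ
  have hdata : ∀ φ : L →+* P.SplittingField, ∃ (φ₀ : 𝓞 F →+* W) (t : W),
      (∀ a : F, ε (φ (algebraMap F L a)) = toK K φ₀ a) ∧ t ^ 2 = φ₀ d ∧ ε (φ s) = algebraMap W K (t * iW) := by
    intro φ
    obtain ⟨φ₀, hφ₀⟩ := exists_of_embedding (K := K) GS hrW Ω
      ((algebraMap K Ω).comp (((ε : P.SplittingField →+* K).comp φ).comp (algebraMap F L)))
    have h1 : ∀ a : F, ε (φ (algebraMap F L a)) = toK K φ₀ a := fun a =>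
      (algebraMap K Ω).injective (congrArg (fun χ : F →+* Ω => χ a) hφ₀)
    obtain ⟨t, ht1, ht2⟩ := hsval (E := K) ((ε : P.SplittingField →+* K).comp φ) φ₀ fun a => by
      have := h1 a
      rw [toK_algebraMap] at this
      exact this
    exact ⟨φ₀, t, h1, ht1, ht2⟩
  choose φ₀ t h1 h2 h3 using hdata
  have huniq : ∀ φ ∈ Φ, ∀ φ' ∈ Φ, (maximalIdeal W).comap (φ₀ φ) = (maximalIdeal W).comap (φ₀ φ') → φ = φ' := by
    intro φ hφ φ' hφ' h
    obtain ⟨k1, k2⟩ := centre hrW G.prime (φ₀ φ')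
    have e0 : φ₀ φ = φ₀ φ' := hom_unique G.prime k2 (G.norm _ k1 k2) (G.unram _ k1) _ _ h rfl
    have e1 : ∀ a : F, φ (algebraMap F L a) = φ' (algebraMap F L a) := fun a =>
      (ε : P.SplittingField →+* K).injective (by
        change ε _ = ε _
        rw [h1, h1, e0])
    have e5 : ∀ χ : L →+* P.SplittingField, χ (s : L) ^ 2 = -χ (algebraMap F L d) := fun χ => by
      have e6 := congrArg χ hs
      rwa [map_pow, map_neg] at e6
    have e2 : φ s ^ 2 = φ' s ^ 2 := by rw [e5, e5, e1]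
    rcases sq_eq_sq_iff_eq_or_eq_neg.1 e2 with e3 | e3
    · ext x
      obtain ⟨a, b, rfl⟩ := hgen x
      rw [map_add, map_mul, map_add, map_mul, e1, e1, e3]
    · exfalso
      refine (hΦ φ').1 hφ' ?_
      have e4 : φ'.comp (c : L →+* L) = φ := by
        ext x
        obtain ⟨a, b, rfl⟩ := hgen x
        rw [RingHom.comp_apply]
        change φ' (c _) = _
        rw [map_add, map_mul, hcF, hcF, hcs, map_add, map_mul, map_neg, map_add, map_mul, e1, e1, e3]
      rwa [e4]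
  obtain ⟨T, -, hT⟩ := exists_primes GS
  have hx : ∀ v : T, ∃ x : 𝓞 F, x ^ 2 - d ∈ v.1 ∧
      ∀ φ ∈ Φ, (maximalIdeal W).comap (φ₀ φ) = v.1 → t φ - φ₀ φ x ∈ maximalIdeal W := by
    intro v
    by_cases hex : ∃ φ ∈ Φ, (maximalIdeal W).comap (φ₀ φ) = v.1
    · obtain ⟨φ, hφ, hφv⟩ := hex
      obtain ⟨x, hx⟩ := exists_approx G hrW (φ₀ φ) (t φ) (h2 φ)
      refine ⟨x, ?_, fun φ' hφ' hv' => ?_⟩
      · rw [← hφv, Ideal.mem_comap, map_sub, map_pow, ← h2]
        have h4 : φ₀ φ x ^ 2 - t φ ^ 2 = -(t φ - φ₀ φ x) * (t φ + φ₀ φ x) := by ring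
        rw [h4]
        exact Ideal.mul_mem_right _ _ (neg_mem hx)
      · rw [huniq φ' hφ' φ hφ (hv'.trans hφv.symm)]
        exact hx
    · obtain ⟨k1, k2⟩ := (hT v.1).1 v.2
      obtain ⟨x, hx⟩ := G.sq v.1 k1 k2
      exact ⟨x, hx, fun φ hφ hv => absurd ⟨φ, hφ, hv⟩ hex⟩
  choose x hx1 hx2 using hx
  obtain ⟨h, hh⟩ := IsDedekindDomain.exists_forall_sub_mem_ideal (s := T) (fun v : Ideal (𝓞 F) => v) (fun _ => 1)
    (fun v hv => by
      obtain ⟨k1, k2⟩ := (hT v).1 hv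
      refine Ideal.prime_of_isPrime ?_ k1.isPrime
      rintro rfl
      rw [Ideal.mem_bot] at k2
      exact G.prime.ne_zero (by exact_mod_cast k2))
    (fun v _ w _ hvw => hvw) x
  have hh' : ∀ v : T, h - x v ∈ v.1 := fun v => by simpa using hh v.1 v.2
  refine ⟨h, mem_span_of_forall GS _ fun v hv hrv => ?_, fun φ hφ => ⟨φ₀ φ, t φ, fun a => ?_, ?_, ?_⟩⟩
  · have hvT : v ∈ T := (hT v).2 ⟨hv, hrv⟩
    have h4 : h ^ 2 - d = (h - x ⟨v, hvT⟩) * (h + x ⟨v, hvT⟩) + (x ⟨v, hvT⟩ ^ 2 - d) := by ring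
    rw [h4]
    exact add_mem (Ideal.mul_mem_right _ _ (hh' ⟨v, hvT⟩)) (hx1 ⟨v, hvT⟩)
  · change algebraMap W K (φ₀ φ a) = ε _
    rw [h1, toK_algebraMap]
  · exact (h3 φ).symm
  · obtain ⟨k1, k2⟩ := centre hrW G.prime (φ₀ φ)
    have hvT : (maximalIdeal W).comap (φ₀ φ) ∈ T := (hT _).2 ⟨k1, k2⟩
    have h5 := hh' ⟨_, hvT⟩
    rw [Ideal.mem_comap, map_sub] at h5
    have h6 := hx2 ⟨_, hvT⟩ φ hφ rfl
    have h7 := sub_mem h6 h5
    rwa [sub_sub_sub_cancel_right] at h7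

end K613.EmbMain
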