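import Mathlib.NumberTheory.NumberField.Basic
import Mathlib.RingTheory.AdicCompletion.RingHom
import Mathlib.RingTheory.LocalRing.ResidueField.Basic
import Mathlib.RingTheory.DedekindDomain.Ideal.Lemmas
import Mathlib.RingTheory.Multiplicity
import Mathlib.FieldTheory.Finite.Basic
import Mathlib.Data.ZMod.Basic

/-!
# Completion of a Dedekind domain at a prime of degree one and ramification index one

`O` a Dedekind domain, `v` a maximal ideal with `#(O/v) = r` prime, `r ∈ v`, `r ∉ v ^ 2`; `W` a local ring of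
characteristic zero complete for its maximal ideal `𝔪 ∋ r`.  There is a unique ring homomorphism `φ : O → W` with
`φ⁻¹(𝔪) = v`.
-/

set_option autoImplicit false

namespace K613.EmbLoc

open Ideal IsLocalRing

section one

variable {O : Type*} [CommRing O] [IsDedekindDomain O] {r : ℕ} {v : Ideal O} [hv : v.IsMaximal]

omit [IsDedekindDomain O] in
theorem exists_int_one (hr : r.Prime) (hrv : (r : O) ∈ v) (hcard : Nat.card (O ⧸ v) = r) (x : O) :
    ∃ z : ℤ, x - z ∈ v := by
  have : Fact r.Prime := ⟨hr⟩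
  have h0 : ((r : ℕ) : O ⧸ v) = 0 := by
    have := Ideal.Quotient.eq_zero_iff_mem.2 hrv
    simpa using this
  have hc : CharP (O ⧸ v) r := (CharP.charP_iff_prime_eq_zero hr).2 h0
  have hfin : Finite (O ⧸ v) := Nat.finite_of_card_ne_zero (by rw [hcard]; exact hr.ne_zero)
  let f : ZMod r →+* O ⧸ v := ZMod.castHom dvd_rfl _
  have hf : Function.Bijective f :=
    (RingHom.injective f).bijective_of_nat_card_le (by rw [hcard, Nat.card_zmod])
  obtain ⟨a, ha⟩ := hf.2 (Ideal.Quotient.mk v x)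
  obtain ⟨z, rfl⟩ := ZMod.intCast_surjective a
  refine ⟨z, Ideal.Quotient.eq.1 ?_⟩
  rw [← ha, map_intCast, map_intCast]

theorem not_mem_pow (hrv : (r : O) ∈ v) (hunr : (r : O) ∉ v ^ 2) (m : ℕ) : ((r : O) ^ m) ∉ v ^ (m + 1) := by
  have hv0 : v ≠ ⊥ := by
    rintro rfl
    have h1 : (r : O) = 0 := by simpa using hrv
    exact hunr (by rw [h1]; exact zero_mem _)
  have hp : Prime v := Ideal.prime_of_isPrime hv0 hv.isPrime
  have h1 : emultiplicity v (Ideal.span {(r : O)}) = (1 : ℕ) := by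
    rw [emultiplicity_eq_coe]
    constructor
    · rw [pow_one, Ideal.dvd_span_singleton]
      exact hrv
    · rwa [Ideal.dvd_span_singleton]
  have h2 : emultiplicity v (Ideal.span {(r : O)} ^ m) = (m : ℕ) := by
    rw [emultiplicity_pow hp, h1, Nat.cast_one, mul_one]
  intro h
  rw [← Ideal.dvd_span_singleton, ← Ideal.span_singleton_pow, pow_dvd_iff_le_emultiplicity, h2] at h
  have h3 : m + 1 ≤ m := by exact_mod_cast h
  omega

theorem exists_int (hr : r.Prime) (hrv : (r : O) ∈ v) (hcard : Nat.card (O ⧸ v) = r)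
    (hunr : (r : O) ∉ v ^ 2) (m : ℕ) (x : O) : ∃ z : ℤ, x - z ∈ v ^ m := by
  induction m with
  | zero => exact ⟨0, by simp⟩
  | succ m ih =>
    obtain ⟨z, hz⟩ := ih
    have hv0 : v ≠ ⊥ := by
      rintro rfl
      have h1 : (r : O) = 0 := by simpa using hrv
      exact hunr (by rw [h1]; exact zero_mem _)
    have hJ : Ideal.span {(r : O) ^ m} ⊔ v ^ (m + 1) = v ^ m := by
      refine Ideal.eq_prime_pow_of_succ_lt_of_le hv0 (lt_of_le_of_ne le_sup_right ?_)
        (sup_le ?_ (Ideal.pow_le_pow_right (Nat.le_succ m)))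
      · intro h
        refine not_mem_pow hrv hunr m ?_
        rw [h]
        exact Ideal.mem_sup_left (Ideal.mem_span_singleton_self _)
      · rw [Ideal.span_singleton_le_iff_mem]
        exact Ideal.pow_mem_pow hrv m
    rw [← hJ] at hz
    obtain ⟨a, ha, b, hb, hab⟩ := Submodule.mem_sup.1 hz
    obtain ⟨u, rfl⟩ := Ideal.mem_span_singleton'.1 ha
    obtain ⟨z', hz'⟩ := exists_int_one hr hrv hcard u
    refine ⟨z + r ^ m * z', ?_⟩
    have h5 : x - ((z + r ^ m * z' : ℤ) : O) = (u - z') * (r : O) ^ m + b := by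
      push_cast
      linear_combination hab.symm
    rw [h5]
    refine add_mem ?_ hb
    rw [pow_succ']
    exact Ideal.mul_mem_mul hz' (Ideal.pow_mem_pow hrv m)

omit [IsDedekindDomain O] in
theorem dvd_of_mem (hr : r.Prime) (hrv : (r : O) ∈ v) {z : ℤ} (hz : (z : O) ∈ v) : (r : ℤ) ∣ z := by
  by_contra h
  have h1 : IsCoprime (r : ℤ) z := (Nat.prime_iff_prime_int.1 hr).coprime_iff_not_dvd.2 h
  obtain ⟨a, b, hab⟩ := h1
  apply hv.ne_top
  rw [Ideal.eq_top_iff_one]
  have h2 : (1 : O) = a * r + b * z := by exact_mod_cast (congrArg (fun t : ℤ => (t : O)) hab).symm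
  rw [h2]
  exact add_mem (Ideal.mul_mem_left _ _ hrv) (Ideal.mul_mem_left _ _ hz)

theorem pow_dvd_of_mem (hr : r.Prime) (hrv : (r : O) ∈ v) (hunr : (r : O) ∉ v ^ 2) (m : ℕ) (z : ℤ)
    (hz : (z : O) ∈ v ^ m) : (r : ℤ) ^ m ∣ z := by
  induction m with
  | zero => simp
  | succ m ih =>
    obtain ⟨y, rfl⟩ := ih (Ideal.pow_le_pow_right (Nat.le_succ m) hz)
    have h1 : (r : O) ^ m * (y : O) ∈ v ^ (m + 1) := by exact_mod_cast hz
    rcases Ideal.IsPrime.mem_pow_mul v h1 with h | h
    · exact absurd h (not_mem_pow hrv hunr m)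
    · obtain ⟨w, rfl⟩ := dvd_of_mem hr hrv h
      exact ⟨w, by ring⟩

end one

section two

variable {O : Type*} [CommRing O] [IsDedekindDomain O] {r : ℕ} {v : Ideal O} [hv : v.IsMaximal]
  {W : Type*} [CommRing W] [IsLocalRing W]

/-- Two homomorphisms to a separated local ring with the same centre `v` coincide. -/
theorem hom_unique (hr : r.Prime) (hrv : (r : O) ∈ v) (hcard : Nat.card (O ⧸ v) = r)
    (hunr : (r : O) ∉ v ^ 2) [IsHausdorff (maximalIdeal W) W] (φ ψ : O →+* W)
    (hφ : (maximalIdeal W).comap φ = v) (hψ : (maximalIdeal W).comap ψ = v) : φ = ψ := by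
  ext x
  refine (IsHausdorff.eq_iff_smodEq (I := maximalIdeal W)).2 fun m => ?_
  obtain ⟨z, hz⟩ := exists_int hr hrv hcard hunr m x
  have key : ∀ χ : O →+* W, (maximalIdeal W).comap χ = v → χ x - z ∈ maximalIdeal W ^ m := by
    intro χ hχ
    have h1 : v ^ m ≤ (maximalIdeal W ^ m).comap χ := by
      rw [← hχ]
      exact Ideal.le_comap_pow _ _
    have h2 := h1 hz
    rwa [Ideal.mem_comap, map_sub, map_intCast] at h2
  rw [SModEq.sub_mem, smul_eq_mul, Ideal.mul_top]
  have h3 := sub_mem (key φ hφ) (key ψ hψ)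
  rwa [sub_sub_sub_cancel_right] at h3

/-- Existence of the homomorphism to the completion. -/
theorem exists_hom (hr : r.Prime) (hrv : (r : O) ∈ v) (hcard : Nat.card (O ⧸ v) = r)
    (hunr : (r : O) ∉ v ^ 2) [IsAdicComplete (maximalIdeal W) W] (hrW : (r : W) ∈ maximalIdeal W) :
    ∃ φ : O →+* W, (maximalIdeal W).comap φ = v := by
  have hsurj : ∀ m, Function.Surjective (Int.castRingHom (O ⧸ v ^ m)) := by
    intro m y
    obtain ⟨x, rfl⟩ := Ideal.Quotient.mk_surjective y
    obtain ⟨z, hz⟩ := exists_int hr hrv hcard hunr m x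
    refine ⟨z, ?_⟩
    rw [eq_intCast, ← map_intCast (Ideal.Quotient.mk (v ^ m)), eq_comm]
    exact Ideal.Quotient.eq.2 hz
  have hker : ∀ m, RingHom.ker (Int.castRingHom (O ⧸ v ^ m)) ≤
      RingHom.ker (Int.castRingHom (W ⧸ maximalIdeal W ^ m)) := by
    intro m z hz
    rw [RingHom.mem_ker, eq_intCast, ← map_intCast (Ideal.Quotient.mk (v ^ m)),
      Ideal.Quotient.eq_zero_iff_mem] at hz
    obtain ⟨y, rfl⟩ := pow_dvd_of_mem hr hrv hunr m z hz
    rw [RingHom.mem_ker, eq_intCast, ← map_intCast (Ideal.Quotient.mk (maximalIdeal W ^ m)),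
      Ideal.Quotient.eq_zero_iff_mem]
    push_cast
    exact Ideal.mul_mem_right _ _ (Ideal.pow_mem_pow hrW m)
  let g : ∀ m, O →+* W ⧸ maximalIdeal W ^ m := fun m =>
    ((Int.castRingHom (O ⧸ v ^ m)).liftOfSurjective (hsurj m) ⟨_, hker m⟩).comp (Ideal.Quotient.mk (v ^ m))
  have hg : ∀ (m : ℕ) (x : O) (z : ℤ), x - z ∈ v ^ m → g m x = z := by
    intro m x z hz
    have h1 : Ideal.Quotient.mk (v ^ m) x = (Int.castRingHom (O ⧸ v ^ m)) z := by
      rw [eq_intCast, ← map_intCast (Ideal.Quotient.mk (v ^ m))]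
      exact Ideal.Quotient.eq.2 hz
    change ((Int.castRingHom (O ⧸ v ^ m)).liftOfSurjective (hsurj m) ⟨_, hker m⟩) (Ideal.Quotient.mk (v ^ m) x) = z
    rw [h1, RingHom.liftOfSurjective_comp_apply]
    simp
  have hcomp : ∀ {m n : ℕ} (hle : m ≤ n), (Ideal.Quotient.factorPow (maximalIdeal W) hle).comp (g n) = g m := by
    intro m n hle
    ext x
    obtain ⟨z, hz⟩ := exists_int hr hrv hcard hunr n x
    rw [RingHom.comp_apply, hg n x z hz, hg m x z (Ideal.pow_le_pow_right hle hz), map_intCast]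
  refine ⟨IsAdicComplete.liftRingHom (maximalIdeal W) g hcomp, ?_⟩
  symm
  apply hv.eq_of_le
  · intro h
    have h1 : (1 : O) ∈ (maximalIdeal W).comap (IsAdicComplete.liftRingHom (maximalIdeal W) g hcomp) := by
      rw [h]
      trivial
    rw [Ideal.mem_comap, map_one] at h1
    exact (maximalIdeal.isMaximal W).ne_top ((Ideal.eq_top_iff_one _).2 h1)
  · intro x hx
    rw [Ideal.mem_comap]
    have h1 : Ideal.Quotient.mk (maximalIdeal W ^ 1) (IsAdicComplete.liftRingHom (maximalIdeal W) g hcomp x) = 0 := by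
      rw [IsAdicComplete.mk_liftRingHom, hg 1 x 0 (by simpa using hx)]
      simp
    rw [Ideal.Quotient.eq_zero_iff_mem, pow_one] at h1
    exact h1

end two

end K613.EmbLoc
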