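import Groth.Agent.AbVar.K613.EmbLoc
import Mathlib.RingTheory.Ideal.Norm.AbsNorm
import Mathlib.NumberTheory.NumberField.InfinitePlace.Embeddings
import Mathlib.Algebra.Squarefree.Basic

/-!
# Totally split primes: the embeddings of a number field into the fraction field of a complete local ring
-/

set_option autoImplicit false

universe u

namespace K613.EmbNum

open Ideal IsLocalRing K613.EmbLoc UniqueFactorizationMonoid
open scoped NumberField

/-- `r` splits completely in `F`. -/
structure Split (F : Type) [Field F] [NumberField F] (r : ℕ) : Prop where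
  prime : r.Prime
  norm : ∀ v : Ideal (𝓞 F), v.IsMaximal → (r : 𝓞 F) ∈ v → Nat.card (𝓞 F ⧸ v) = r
  unram : ∀ v : Ideal (𝓞 F), v.IsMaximal → (r : 𝓞 F) ∉ v ^ 2

section

variable {F : Type} [Field F] [NumberField F] {r : ℕ}

theorem span_ne_bot (G : Split F r) : Ideal.span {(r : 𝓞 F)} ≠ ⊥ := by
  rw [Ne, Ideal.span_singleton_eq_bot]
  exact_mod_cast G.prime.ne_zero

theorem squarefree_span (G : Split F r) : Squarefree (Ideal.span {(r : 𝓞 F)}) := by
  intro J hJ
  rw [Ideal.isUnit_iff]
  by_contra h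
  obtain ⟨v, hv, hJv⟩ := Ideal.exists_le_maximal J h
  refine G.unram v hv ?_
  have h1 : Ideal.span {(r : 𝓞 F)} ≤ J * J := Ideal.le_of_dvd hJ
  have h2 := h1 (Ideal.mem_span_singleton_self _)
  rw [pow_two]
  exact Ideal.mul_mono hJv hJv h2

theorem mem_span_of_forall (G : Split F r) (y : 𝓞 F)
    (hy : ∀ v : Ideal (𝓞 F), v.IsMaximal → (r : 𝓞 F) ∈ v → y ∈ v) : y ∈ Ideal.span {(r : 𝓞 F)} := by
  have hrad := (squarefree_span G).isRadical
  have h1 : y ∈ (Ideal.span {(r : 𝓞 F)}).radical := by
    rw [Ideal.radical_eq_sInf, Ideal.mem_sInf]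
    rintro J ⟨hJ1, hJ2⟩
    have hJr : (r : 𝓞 F) ∈ J := hJ1 (Ideal.mem_span_singleton_self _)
    refine hy J (hJ2.isMaximal ?_) hJr
    rintro rfl
    exact span_ne_bot G (le_bot_iff.1 hJ1)
  obtain ⟨n, hn⟩ := h1
  have h2 := hrad n (Ideal.span {y}) (by
    rw [Ideal.span_singleton_pow, Ideal.dvd_span_singleton]
    exact hn)
  rwa [Ideal.dvd_span_singleton] at h2

/-- the primes above `r`. -/
theorem exists_primes (G : Split F r) : ∃ T : Finset (Ideal (𝓞 F)), T.card = Module.finrank ℚ F ∧
    ∀ v, v ∈ T ↔ v.IsMaximal ∧ (r : 𝓞 F) ∈ v := by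
  classical
  have h0 := span_ne_bot G
  have hmem : ∀ v : Ideal (𝓞 F), v ∈ normalizedFactors (Ideal.span {(r : 𝓞 F)}) ↔
      v.IsMaximal ∧ (r : 𝓞 F) ∈ v := by
    intro v
    rw [Ideal.mem_normalizedFactors_iff h0, Ideal.span_singleton_le_iff_mem]
    constructor
    · rintro ⟨h1, h2⟩
      refine ⟨h1.isMaximal ?_, h2⟩
      rintro rfl
      exact h0 (Ideal.span_singleton_eq_bot.2 (by simpa using h2))
    · rintro ⟨h1, h2⟩
      exact ⟨h1.isPrime, h2⟩
  refine ⟨(normalizedFactors (Ideal.span {(r : 𝓞 F)})).toFinset, ?_, fun v => by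
    rw [Multiset.mem_toFinset, hmem]⟩
  rw [Multiset.toFinset_card_of_nodup ((squarefree_iff_nodup_normalizedFactors h0).1 (squarefree_span G))]
  have h1 : ((normalizedFactors (Ideal.span {(r : 𝓞 F)})).map Ideal.absNorm).prod =
      r ^ Module.finrank ℤ (𝓞 F) := by
    rw [← map_multiset_prod, Ideal.prod_normalizedFactors_eq_self h0, Ideal.absNorm_span_natCast]
  have h2 : (normalizedFactors (Ideal.span {(r : 𝓞 F)})).map Ideal.absNorm =
      Multiset.replicate (Multiset.card (normalizedFactors (Ideal.span {(r : 𝓞 F)}))) r := by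
    rw [Multiset.eq_replicate]
    refine ⟨Multiset.card_map _ _, fun b hb => ?_⟩
    obtain ⟨v, hv, rfl⟩ := Multiset.mem_map.1 hb
    obtain ⟨hv1, hv2⟩ := (hmem v).1 hv
    exact G.norm v hv1 hv2
  rw [h2, Multiset.prod_replicate] at h1
  rw [Nat.pow_right_injective G.prime.two_le h1, NumberField.RingOfIntegers.rank]

end

section

variable {F : Type} [Field F] [NumberField F] {r : ℕ}
  {W : Type u} [CommRing W] [IsDomain W] [IsLocalRing W] [CharZero W] [IsAdicComplete (maximalIdeal W) W]
  {K : Type u} [Field K] [Algebra W K] [IsFractionRing W K]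

omit [NumberField F] [IsDomain W] [IsLocalRing W] [IsAdicComplete (maximalIdeal W) W] in
theorem injective_hom (φ : 𝓞 F →+* W) : Function.Injective φ := by
  rw [RingHom.injective_iff_ker_eq_bot]
  refine Ideal.eq_bot_of_comap_eq_bot (R := ℤ) ?_
  rw [eq_bot_iff]
  intro z hz
  rw [Ideal.mem_comap, RingHom.mem_ker] at hz
  have h1 : (z : W) = 0 := by simpa using hz
  exact_mod_cast h1

/-- the embedding of `F` into `K = Frac W` attached to a homomorphism `𝓞 F → W`. -/
noncomputable def toK (K : Type u) [Field K] [Algebra W K] [IsFractionRing W K] (φ : 𝓞 F →+* W) : F →+* K :=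
  IsFractionRing.lift (A := 𝓞 F) (K := F) (g := (algebraMap W K).comp φ)
    ((IsFractionRing.injective W K).comp (injective_hom φ))

omit [IsLocalRing W] [IsAdicComplete (maximalIdeal W) W] in
theorem toK_algebraMap (φ : 𝓞 F →+* W) (x : 𝓞 F) : toK K φ (x : F) = algebraMap W K (φ x) :=
  IsFractionRing.lift_algebraMap _ _

omit [IsLocalRing W] [IsAdicComplete (maximalIdeal W) W] in
theorem toK_injective : Function.Injective (toK (F := F) (W := W) K) := by
  intro φ ψ h
  ext x
  apply IsFractionRing.injective W K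
  rw [← toK_algebraMap, h, toK_algebraMap]

/-- Every embedding of `F` into an algebraically closed extension of `K` comes from a homomorphism `𝓞 F → W`. -/
theorem exists_of_embedding (G : Split F r) (hrW : (r : W) ∈ maximalIdeal W) (Ω : Type*) [Field Ω] [IsAlgClosed Ω]
    [Algebra K Ω] (σ : F →+* Ω) : ∃ φ : 𝓞 F →+* W, σ = (algebraMap K Ω).comp (toK K φ) := by
  have hK : CharZero K := charZero_of_injective_algebraMap (IsFractionRing.injective W K)
  have hΩ : CharZero Ω := charZero_of_injective_algebraMap (algebraMap K Ω).injective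
  obtain ⟨T, hT, hmem⟩ := exists_primes G
  have hex : ∀ v : T, ∃ φ : 𝓞 F →+* W, (maximalIdeal W).comap φ = v.1 := by
    intro v
    obtain ⟨h1, h2⟩ := (hmem v.1).1 v.2
    exact exists_hom G.prime h2 (G.norm v.1 h1 h2) (G.unram v.1 h1) hrW
  choose φ hφ using hex
  have hinj : Function.Injective fun v : T => (algebraMap K Ω).comp (toK K (φ v)) := by
    intro v w h
    have h1 : toK K (φ v) = toK K (φ w) := by
      ext x
      exact (algebraMap K Ω).injective (congrArg (fun χ : F →+* Ω => χ x) h)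
    apply Subtype.ext
    rw [← hφ v, ← hφ w, toK_injective h1]
  have hbij := (Fintype.bijective_iff_injective_and_card _).2 ⟨hinj, by
    rw [Fintype.card_coe, hT, NumberField.Embeddings.card]⟩
  obtain ⟨v, hv⟩ := hbij.2 σ
  exact ⟨φ v, hv.symm⟩

end

/-- If all embeddings of `L` into `Ω` have values in `K` then the minimal polynomials split over `K`. -/
theorem splits_of_range {L : Type} [Field L] [NumberField L] {K Ω : Type*} [Field K] [CharZero K] [Field Ω]
    [Algebra K Ω] [IsAlgClosed Ω] (h : ∀ (σ : L →+* Ω) (x : L), σ x ∈ (algebraMap K Ω).range) (x : L) :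
    ((minpoly ℚ x).map (algebraMap ℚ K)).Splits := by
  have hΩ : CharZero Ω := charZero_of_injective_algebraMap (algebraMap K Ω).injective
  refine Polynomial.Splits.of_splits_map (algebraMap K Ω) (IsAlgClosed.splits _) fun a ha => ?_
  rw [Polynomial.map_map, Subsingleton.elim ((algebraMap K Ω).comp (algebraMap ℚ K)) (algebraMap ℚ Ω)] at ha
  have h1 : a ∈ (minpoly ℚ x).rootSet Ω := by
    rw [Polynomial.mem_rootSet']
    have h2 := Polynomial.mem_roots'.1 ha
    exact ⟨h2.1, by simpa [Polynomial.aeval_def, Polynomial.eval_map] using h2.2⟩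
  rw [← NumberField.Embeddings.range_eval_eq_rootSet_minpoly] at h1
  obtain ⟨σ, rfl⟩ := h1
  exact h σ x

end K613.EmbNum
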