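import Groth.Agent.AbVar.K613.EtLift
import Groth.Agent.Pi1A.Clopen
import Groth.Agent.AbSch.K448.SmoothConn
import Groth.Agent.S7792
import Groth.Agent.S7784

/-!
# Isogenies onto an abelian scheme over a henselian local ring, lifted from the closed fibre

Honda-Tate node (ET): a finite étale isogeny onto the closed fibre of an abelian scheme `A` over a
henselian local ring comes from a unique finite étale isogeny `X ⟶ A` of abelian schemes, and
homomorphisms lift uniquely.
-/

set_option autoImplicit false

universe u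

open CategoryTheory CategoryTheory.Limits MonoidalCategory CartesianMonoidalCategory MonObj AlgebraicGeometry

namespace K613.EtGrp

open K613.EtLift

theorem connectedSpace_of_isEquivalence {X Y : Scheme.{u}} (j : X ⟶ Y) [(FEt.restrict j).IsEquivalence]
    [ConnectedSpace X] : ConnectedSpace Y := by
  have hne : Nonempty Y := by
    obtain ⟨x⟩ := (inferInstance : Nonempty X)
    exact ⟨j x⟩
  have key : ∀ V : Set Y, IsClopen V → j ⁻¹' V = ∅ → V = ∅ := by
    intro V hV h
    have := Groth.Agent.Pi1A.Clopen.eq_bot_of_preimage_eq_bot j ⟨V, hV.isOpen⟩ hV.isClosed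
      (TopologicalSpace.Opens.ext h)
    exact congr(($this : Set Y))
  have hpre : PreconnectedSpace Y := by
    rw [preconnectedSpace_iff_clopen]
    intro V hV
    rcases isClopen_iff.mp (hV.preimage j.continuous) with h | h
    · exact Or.inl (key V hV h)
    · right
      have h1 : j ⁻¹' Vᶜ = ∅ := by rw [Set.preimage_compl, h, Set.compl_univ]
      exact Set.compl_empty_iff.mp (key _ hV.compl h1)
  exact { toPreconnectedSpace := hpre, toNonempty := hne }

theorem connectedSpace_spec (R : Type u) [CommRing R] [IsLocalRing R] : ConnectedSpace (PrimeSpectrum R) := by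
  have hpre : PreconnectedSpace (PrimeSpectrum R) := by
    rw [preconnectedSpace_iff_clopen]
    have key : ∀ V : Set (PrimeSpectrum R), IsOpen V → IsLocalRing.closedPoint R ∈ V → V = Set.univ :=
      fun V hV h => Set.eq_univ_of_forall fun x => (IsLocalRing.specializes_closedPoint x).mem_open hV h
    intro V hV
    by_cases h : IsLocalRing.closedPoint R ∈ V
    · exact Or.inr (key V hV.isOpen h)
    · exact Or.inl (Set.compl_univ_iff.mp (key _ hV.compl.isOpen h))
  exact { toPreconnectedSpace := hpre, toNonempty := inferInstance }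

section

variable {S : Scheme.{u}}

/-- A smooth proper group scheme with geometrically connected fibres: morphisms preserving the unit are
homomorphisms. -/
theorem isMonHom_of_one {X Y : Over S} [GrpObj X] [Smooth X.hom] [IsProper X.hom] [GeometricallyConnected X.hom]
    [GrpObj Y] [Smooth Y.hom] [IsProper Y.hom] [GeometricallyConnected Y.hom]
    (f : X ⟶ Y) (hf : η[X] ≫ f = η[Y]) : IsMonHom f := by
  have h1 : GeometricallyReduced X.hom := K448.SmoothConn.geometricallyReduced X.hom
  have h2 : GeometricallyReduced Y.hom := K448.SmoothConn.geometricallyReduced Y.hom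
  exact Groth.Agent.S7784.result X Y f hf

end

scoped instance smooth_bc {S S' : Scheme.{u}} (f : S' ⟶ S) (X : Over S) [Smooth X.hom] : Smooth (Red.bc f X).hom :=
  inferInstanceAs (Smooth (pullback.snd X.hom f))

scoped instance isProper_bc {S S' : Scheme.{u}} (f : S' ⟶ S) (X : Over S) [IsProper X.hom] : IsProper (Red.bc f X).hom :=
  inferInstanceAs (IsProper (pullback.snd X.hom f))

scoped instance geometricallyConnected_bc {S S' : Scheme.{u}} (f : S' ⟶ S) (X : Over S) [GeometricallyConnected X.hom] :
    GeometricallyConnected (Red.bc f X).hom :=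
  inferInstanceAs (GeometricallyConnected (pullback.snd X.hom f))

variable {W : Type u} [CommRing W] [HenselianLocalRing W]

/-- The unit of the base change. -/
theorem map_one_eq {X : Over (Spec (CommRingCat.of W))} [GrpObj X] :
    (Over.pullback (cp W)).map η[X] = Functor.OplaxMonoidal.η (Over.pullback (cp W)) ≫ η[Red.bc (cp W) X] := by
  rw [Functor.obj.η_def, Functor.Monoidal.η_ε_assoc]

scoped instance isProper_tensorUnit {S : Scheme.{u}} : IsProper (𝟙_ (Over S)).hom :=
  inferInstanceAs (IsProper (𝟙 S))

/-- Homomorphisms lift uniquely along a finite étale homomorphism of abelian schemes. -/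
theorem existsUnique_hom {X A Y : Over (Spec (CommRingCat.of W))}
    [GrpObj X] [Smooth X.hom] [IsProper X.hom] [GeometricallyConnected X.hom] [GrpObj A]
    [GrpObj Y] [Smooth Y.hom] [IsProper Y.hom] [GeometricallyConnected Y.hom]
    (w : X ⟶ A) [IsMonHom w] [IsFinite w.left] [Etale w.left] (g : Y ⟶ A) [IsMonHom g]
    (u₀ : Red.bc (cp W) Y ⟶ Red.bc (cp W) X) [IsMonHom u₀]
    (h : u₀ ≫ (Over.pullback (cp W)).map w = (Over.pullback (cp W)).map g) :
    ∃ u : Y ⟶ X, IsMonHom u ∧ u ≫ w = g ∧ (Over.pullback (cp W)).map u = u₀ ∧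
      ∀ u' : Y ⟶ X, u' ≫ w = g → (Over.pullback (cp W)).map u' = u₀ → u' = u := by
  obtain ⟨u, ⟨hu1, hu2⟩, hu3⟩ := existsUnique_lift w g u₀ h
  refine ⟨u, ?_, hu1, hu2, fun u' h1 h2 => hu3 u' ⟨h1, h2⟩⟩
  apply isMonHom_of_one
  obtain ⟨e, -, he⟩ := existsUnique_lift w η[A] ((Over.pullback (cp W)).map η[X]) (by
    rw [← Functor.map_comp, IsMonHom.one_hom])
  refine (he _ ⟨?_, ?_⟩).trans (he _ ⟨IsMonHom.one_hom w, rfl⟩).symm
  · rw [Category.assoc, hu1, IsMonHom.one_hom]
  · rw [Functor.map_comp, hu2, map_one_eq, map_one_eq, Category.assoc, IsMonHom.one_hom]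

/-- **Lifting an étale isogeny from the closed fibre.** -/
theorem exists_isogeny (A : Over (Spec (CommRingCat.of W))) [GrpObj A] [Smooth A.hom] [IsProper A.hom]
    [GeometricallyConnected A.hom]
    (B : Over (Spec (CommRingCat.of (IsLocalRing.ResidueField W)))) [GrpObj B] [GeometricallyConnected B.hom]
    (f : B ⟶ Red.bc (cp W) A) [IsMonHom f] [IsFinite f.left] [Etale f.left] :
    ∃ (X : Over (Spec (CommRingCat.of W))) (_ : GrpObj X) (w : X ⟶ A) (e : Red.bc (cp W) X ≅ B),
      IsMonHom w ∧ IsFinite w.left ∧ Etale w.left ∧ Surjective w.left ∧ Smooth X.hom ∧ IsProper X.hom ∧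
      GeometricallyConnected X.hom ∧ IsMonHom e.hom ∧ (Over.pullback (cp W)).map w = e.hom ≫ f := by
  obtain ⟨X, w, hw1, hw2, e, he⟩ := exists_cover A B f
  have hX : X.hom = w.left ≫ A.hom := (Over.w w).symm
  have hX1 : Smooth X.hom := by rw [hX]; infer_instance
  have hX2 : IsProper X.hom := by rw [hX]; infer_instance
  obtain ⟨eX, ⟨h1, h2⟩, -⟩ := existsUnique_lift w η[A]
    (Functor.OplaxMonoidal.η (Over.pullback (cp W)) ≫ η[B] ≫ e.inv) (by
      rw [he, Category.assoc, Category.assoc, Iso.inv_hom_id_assoc, IsMonHom.one_hom, map_one_eq])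
  have hBc : ConnectedSpace B.left :=
    GeometricallyConnected.geometrically_connectedSpace (f := B.hom) (𝟙 _) (𝟙 _) B.hom
      (IsPullback.of_horiz_isIso ⟨by simp⟩)
  have hXk : ConnectedSpace ↥(pullback X.hom (cp W)) := by
    let ε : B.left ≅ pullback X.hom (cp W) := ((Over.forget _).mapIso e).symm
    have hs : Function.Surjective ε.hom := ε.hom.homeomorph.surjective
    exact hs.connectedSpace ε.hom.continuous
  have heq : (FEt.restrict (pullback.fst X.hom (cp W))).IsEquivalence := Groth.Agent.S0240.result W X.hom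
  have hXc : ConnectedSpace X.left := connectedSpace_of_isEquivalence (pullback.fst X.hom (cp W))
  have hSc : ConnectedSpace (Spec (CommRingCat.of W)) :=
    connectedSpace_spec W
  have hsec : eX.left ≫ X.hom = 𝟙 _ := Over.w eX
  have hXr : GeometricallyReduced X.hom := K448.SmoothConn.geometricallyReduced X.hom
  have hXg : GeometricallyConnected X.hom :=
    K448.SmoothConn.geometricallyConnected_of_section X.hom eX.left hsec
  have hws : Surjective w.left := by
    have hAc : ConnectedSpace A.left := by
      have h5 : ConnectedSpace ↥(pullback A.hom (cp W)) := by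
        have h6 := GeometricallyConnected.geometrically_connectedSpace (f := A.hom) (cp W) (pullback.fst A.hom (cp W))
          (pullback.snd A.hom (cp W)) (IsPullback.of_hasPullback _ _)
        exact h6
      have heq' : (FEt.restrict (pullback.fst A.hom (cp W))).IsEquivalence := Groth.Agent.S0240.result W A.hom
      exact connectedSpace_of_isEquivalence (pullback.fst A.hom (cp W))
    have h7 : IsClopen (Set.range w.left) :=
      ⟨w.left.isClosedMap.isClosed_range, w.left.isOpenMap.isOpen_range⟩
    exact ⟨Set.range_eq_univ.mp (h7.eq_univ (Set.range_nonempty _))⟩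
  have hAr : GeometricallyReduced A.hom := K448.SmoothConn.geometricallyReduced A.hom
  obtain ⟨hG, ⟨hG1, hG2⟩, -⟩ := Groth.Agent.S7792.result A X w eX h1
  let _ := hG
  have hwm : IsMonHom w := ⟨by rw [← h1, ← hG1], hG2⟩
  have hBs : Smooth B.hom := by
    rw [← Over.w f]
    infer_instance
  have hBp : IsProper B.hom := by
    rw [← Over.w f]
    infer_instance
  have hbG : GeometricallyConnected (Red.bc (cp W) X).hom := inferInstance
  refine ⟨X, hG, w, e, hwm, hw1, hw2, hws, hX1, hX2, hXg, ?_, he⟩
  apply isMonHom_of_one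
  have h8 : (Over.pullback (cp W)).map η[X] = Functor.OplaxMonoidal.η (Over.pullback (cp W)) ≫ η[B] ≫ e.inv := by
    rw [← h2, ← hG1]
  rw [map_one_eq] at h8
  have h9 : η[Red.bc (cp W) X] = η[B] ≫ e.inv := by
    have h10 := congrArg (fun z => Functor.LaxMonoidal.ε (Over.pullback (cp W)) ≫ z) h8
    simpa using h10
  rw [h9, Category.assoc, Iso.inv_hom_id, Category.comp_id]

end K613.EtGrp
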