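import Groth.Prelude.Def_Red
import Groth.Agent.S0240
import Groth.Agent.Pi1A.FEtGlue

/-!
# Finite étale covers of proper schemes over a henselian local ring, in `Over` form

Honda-Tate node (ET), part 1: existence of a finite étale cover with given closed fibre and unique
lifting of morphisms into it.
-/

set_option autoImplicit false

universe u

open CategoryTheory CategoryTheory.Limits AlgebraicGeometry

namespace K613.EtLift

open Groth.Agent.Pi1A.FEtGlue

theorem map_left_fst {S S' : Scheme.{u}} (f : S' ⟶ S) {X A : Over S} (w : X ⟶ A) :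
    ((Over.pullback f).map w).left ≫ pullback.fst A.hom f = pullback.fst X.hom f ≫ w.left :=
  pullback.lift_fst _ _ _

theorem map_left_snd {S S' : Scheme.{u}} (f : S' ⟶ S) {X A : Over S} (w : X ⟶ A) :
    ((Over.pullback f).map w).left ≫ pullback.snd A.hom f = pullback.snd X.hom f :=
  pullback.lift_snd _ _ _

/-- A morphism into a base change is determined by its projection. -/
theorem bc_hom_ext {S S' : Scheme.{u}} (f : S' ⟶ S) {X : Over S} {Y : Over S'} {a b : Y ⟶ Red.bc f X}
    (h : a.left ≫ pullback.fst X.hom f = b.left ≫ pullback.fst X.hom f) : a = b := by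
  apply Over.OverMorphism.ext
  apply pullback.hom_ext h
  exact (Over.w a).trans (Over.w b).symm

variable (W : Type u) [CommRing W] [HenselianLocalRing W]

/-- The closed point of a local ring, as a morphism of schemes. -/
noncomputable abbrev cp : Spec (CommRingCat.of (IsLocalRing.ResidueField W)) ⟶ Spec (CommRingCat.of W) :=
  Spec.map (CommRingCat.ofHom (IsLocalRing.residue W))

variable {W}

/-- Unique lifting of morphisms into a finite étale cover from the closed fibre. -/
theorem existsUnique_lift {X A Y : Over (Spec (CommRingCat.of W))} [IsProper Y.hom]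
    (w : X ⟶ A) [IsFinite w.left] [Etale w.left] (g : Y ⟶ A)
    (u₀ : Red.bc (cp W) Y ⟶ Red.bc (cp W) X)
    (h : u₀ ≫ (Over.pullback (cp W)).map w = (Over.pullback (cp W)).map g) :
    ∃! u : Y ⟶ X, u ≫ w = g ∧ (Over.pullback (cp W)).map u = u₀ := by
  let q : pullback Y.hom (cp W) ⟶ Y.left := pullback.fst Y.hom (cp W)
  have heq : (FEt.restrict q).IsEquivalence := Groth.Agent.S0240.result W Y.hom
  let T : FEt.Cat Y.left := MorphismProperty.Over.mk ⊤ (𝟙 Y.left) ⟨inferInstance, inferInstance⟩
  let X' : FEt.Cat A.left := MorphismProperty.Over.mk ⊤ w.left ⟨inferInstance, inferInstance⟩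
  have h1 : u₀.left ≫ pullback.fst X.hom (cp W) ≫ w.left = q ≫ g.left := by
    have h2 := congrArg (fun z => z.left ≫ pullback.fst A.hom (cp W)) h
    simp only [Over.comp_left, Category.assoc] at h2
    rwa [map_left_fst, map_left_fst] at h2
  obtain ⟨a, ha1, ha2⟩ : ∃ a : Y.left ⟶ X.left, a ≫ w.left = 𝟙 Y.left ≫ g.left ∧
      pullback.fst (𝟙 Y.left) q ≫ a = pullback.snd (𝟙 Y.left) q ≫ u₀.left ≫ pullback.fst X.hom (cp W) :=
    hom_exists q T g.left X'
    (pullback.snd (𝟙 Y.left) q ≫ u₀.left ≫ pullback.fst X.hom (cp W)) (by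
      change (pullback.snd (𝟙 Y.left) q ≫ u₀.left ≫ pullback.fst X.hom (cp W)) ≫ w.left =
        pullback.fst (𝟙 Y.left) q ≫ 𝟙 Y.left ≫ g.left
      rw [Category.assoc, Category.assoc, h1, ← Category.assoc, ← pullback.condition,
        Category.assoc])
  rw [Category.id_comp] at ha1
  have hT : pullback.fst (𝟙 Y.left) q = pullback.snd (𝟙 Y.left) q ≫ q := by
    rw [← pullback.condition, Category.comp_id]
  replace ha2 : q ≫ a = u₀.left ≫ pullback.fst X.hom (cp W) := by
    rw [hT, Category.assoc] at ha2
    exact (cancel_epi (pullback.snd (𝟙 Y.left) q)).1 ha2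
  have hover : a ≫ X.hom = Y.hom := by
    rw [← Over.w w, ← Category.assoc, ha1, Over.w g]
  refine ⟨Over.homMk a hover, ⟨Over.OverMorphism.ext ha1, ?_⟩, ?_⟩
  · apply bc_hom_ext
    rw [map_left_fst]
    exact ha2
  · rintro u ⟨hu1, hu2⟩
    apply Over.OverMorphism.ext
    refine hom_unique q T g.left X' u.left a ?_ ?_ ?_
    · change u.left ≫ w.left = 𝟙 Y.left ≫ g.left
      rw [Category.id_comp, ← hu1, Over.comp_left]
    · change a ≫ w.left = 𝟙 Y.left ≫ g.left
      rw [Category.id_comp, ha1]
    · change pullback.fst (𝟙 Y.left) q ≫ u.left = pullback.fst (𝟙 Y.left) q ≫ a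
      rw [hT, Category.assoc, Category.assoc, ha2, ← hu2, map_left_fst]

/-- Existence of a finite étale cover with given closed fibre. -/
theorem exists_cover (A : Over (Spec (CommRingCat.of W))) [IsProper A.hom]
    (B : Over (Spec (CommRingCat.of (IsLocalRing.ResidueField W)))) (f : B ⟶ Red.bc (cp W) A)
    [IsFinite f.left] [Etale f.left] :
    ∃ (X : Over (Spec (CommRingCat.of W))) (w : X ⟶ A) (_ : IsFinite w.left) (_ : Etale w.left)
      (e : Red.bc (cp W) X ≅ B), (Over.pullback (cp W)).map w = e.hom ≫ f := by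
  let q : pullback A.hom (cp W) ⟶ A.left := pullback.fst A.hom (cp W)
  have heq : (FEt.restrict q).IsEquivalence := Groth.Agent.S0240.result W A.hom
  let B' : FEt.Cat (pullback A.hom (cp W)) := MorphismProperty.Over.mk ⊤ f.left ⟨inferInstance, inferInstance⟩
  obtain ⟨X', ⟨η⟩⟩ : ∃ X', Nonempty ((FEt.restrict q).obj X' ≅ B') :=
    Functor.EssSurj.mem_essImage (F := FEt.restrict q) B'
  have hX1 : IsFinite X'.hom := X'.prop.1
  have hX2 : Etale X'.hom := X'.prop.2
  let ε : pullback X'.hom q ≅ B.left :=
    { hom := η.hom.left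
      inv := η.inv.left
      hom_inv_id := congrArg (fun g => g.left) η.hom_inv_id
      inv_hom_id := congrArg (fun g => g.left) η.inv_hom_id }
  have hε : ε.hom ≫ f.left = pullback.snd X'.hom q := MorphismProperty.Over.w η.hom
  let X : Over (Spec (CommRingCat.of W)) := Over.mk (X'.hom ≫ A.hom)
  let w : X ⟶ A := Over.homMk X'.hom rfl
  let e₁ : pullback X.hom (cp W) ≅ pullback X'.hom q :=
    (pullbackRightPullbackFstIso A.hom (cp W) X'.hom).symm
  have he₁ : e₁.hom ≫ pullback.snd X'.hom q = ((Over.pullback (cp W)).map w).left := by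
    apply pullback.hom_ext
    · rw [map_left_fst, Category.assoc]
      exact pullbackRightPullbackFstIso_inv_snd_fst A.hom (cp W) X'.hom
    · rw [map_left_snd, Category.assoc]
      exact pullbackRightPullbackFstIso_inv_snd_snd A.hom (cp W) X'.hom
  refine ⟨X, w, hX1, hX2, Over.isoMk (e₁ ≪≫ ε) ?_, ?_⟩
  · have h5 : B.hom = f.left ≫ pullback.snd A.hom (cp W) := (Over.w f).symm
    rw [h5, Iso.trans_hom, Category.assoc, ← Category.assoc ε.hom, hε, ← Category.assoc, he₁, map_left_snd]
    rfl
  · apply Over.OverMorphism.ext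
    change ((Over.pullback (cp W)).map w).left = (e₁.hom ≫ ε.hom) ≫ f.left
    rw [Category.assoc, hε, he₁]

end K613.EtLift
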