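import Groth.Agent.AbVar.K613.EtGrp
import Groth.Agent.S7785
import Groth.Agent.S4112
import Groth.Agent.Grpsch.MulFinFlat
import Mathlib.RingTheory.Unramified.LocalStructure

/-!
# Lifting prime-to-`p` isogenies from the closed fibre (Honda-Tate node (ET), main statement)

`A` an abelian scheme over a henselian local ring `W`, `B` an abelian variety over the residue field `k`,
`f : B ⟶ A_k` and `g : A_k ⟶ B` homomorphisms whose composites both are multiplication by `m`, with
`m ≠ 0` in `k`. Then there are an abelian scheme `X` over `W`, homomorphisms `v : A ⟶ X`, `w : X ⟶ A` whose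
composites are multiplication by `m`, and an isomorphism of group schemes `X_k ≅ B` carrying `v_k`, `w_k`
to `g`, `f`.
-/

set_option autoImplicit false

universe u

open CategoryTheory CategoryTheory.Limits MonoidalCategory CartesianMonoidalCategory MonObj AlgebraicGeometry

namespace K613.EtMain

open K613.EtLift K613.EtGrp

theorem isCommMonObj_of_smooth {S : Scheme.{u}} (X : Over S) [GrpObj X] [Smooth X.hom] [IsProper X.hom]
    [GeometricallyConnected X.hom] : IsCommMonObj X := by
  have h1 : GeometricallyReduced X.hom := K448.SmoothConn.geometricallyReduced X.hom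
  exact Groth.Agent.S7785.result X

theorem isMonHom_npow {S : Scheme.{u}} {Y X : Over S} [GrpObj Y] [GrpObj X] [IsCommMonObj X] (g : Y ⟶ X)
    [IsMonHom g] (m : ℕ) : IsMonHom (g ^ m) := by
  have h := Groth.Agent.Grpsch.MulFinFlat.isMonHom_zpow g (m : ℤ)
  rwa [zpow_natCast] at h

section

attribute [local instance] Functor.grpObjObj

theorem map_npow {S S' : Scheme.{u}} (f : S' ⟶ S) {Y X : Over S} [GrpObj X] (g : Y ⟶ X) (m : ℕ) :
    (Over.pullback f).map (g ^ m) = (Over.pullback f).map g ^ m :=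
  map_pow (Functor.homMonoidHom (Over.pullback f) (X := Y) (M := X)) g m

end

theorem map_npow' {S S' : Scheme.{u}} (f : S' ⟶ S) {Y X : Over S} [GrpObj X] (g : Y ⟶ X) (m : ℕ) :
    (Over.pullback f).map (g ^ m) = ((Over.pullback f).map g : Red.bc f Y ⟶ Red.bc f X) ^ m :=
  map_npow f g m

theorem locallyQuasiFinite_of_etale {X Y : Scheme.{u}} (f : X ⟶ Y) [Etale f] : LocallyQuasiFinite f where
  quasiFinite_appLE {U} hU {V} hV e := by
    have h := HasRingHomProperty.appLE @AlgebraicGeometry.Etale f ‹_› ⟨U, hU⟩ ⟨V, hV⟩ e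
    algebraize [(f.appLE U V e).hom]
    change Algebra.QuasiFinite Γ(Y, U) Γ(X, V)
    infer_instance

/-- A homomorphism `f` of abelian varieties which divides multiplication by an integer `m ≠ 0` in the field
on both sides is finite étale. -/
theorem finite_etale_of_mul (k : Type u) [Field k] (A B : Over (Spec (CommRingCat.of k)))
    [GrpObj A] [Smooth A.hom] [IsProper A.hom] [GeometricallyConnected A.hom]
    [GrpObj B] [Smooth B.hom] [IsProper B.hom] [GeometricallyConnected B.hom]
    (f : B ⟶ A) (g : A ⟶ B) (m : ℕ) (hm : (m : k) ≠ 0)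
    (h1 : g ≫ f = (𝟙 A) ^ m) (h2 : f ≫ g = (𝟙 B) ^ m) : IsFinite f.left ∧ Etale f.left := by
  have hA : IsCommMonObj A := isCommMonObj_of_smooth A
  have hB : IsCommMonObj B := isCommMonObj_of_smooth B
  have e1 : Etale (g.left ≫ f.left) := by
    rw [← Over.comp_left, h1]
    exact Groth.Agent.S4112.result k A m hm
  have e2 : Etale (f.left ≫ g.left) := by
    rw [← Over.comp_left, h2]
    exact Groth.Agent.S4112.result k B m hm
  have hf : IsProper f.left := by
    have : IsProper (f.left ≫ A.hom) := by rw [Over.w f]; infer_instance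
    exact IsProper.of_comp f.left A.hom
  have hg : IsProper g.left := by
    have : IsProper (g.left ≫ B.hom) := by rw [Over.w g]; infer_instance
    exact IsProper.of_comp g.left B.hom
  have u1 : FormallyUnramified g.left := FormallyUnramified.of_comp g.left f.left
  have e3 : Etale f.left := Etale.of_comp f.left g.left
  refine ⟨?_, e3⟩
  have hq : LocallyQuasiFinite f.left := locallyQuasiFinite_of_etale f.left
  exact IsFinite.of_isProper_of_locallyQuasiFinite f.left

variable {W : Type u} [CommRing W] [HenselianLocalRing W]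

/-- **(ET)** Lifting an isogeny of degree prime to the residue characteristic. -/
theorem main (A : Over (Spec (CommRingCat.of W))) [GrpObj A] [Smooth A.hom] [IsProper A.hom]
    [GeometricallyConnected A.hom]
    (B : Over (Spec (CommRingCat.of (IsLocalRing.ResidueField W)))) [GrpObj B] [Smooth B.hom] [IsProper B.hom]
    [GeometricallyConnected B.hom]
    (f : B ⟶ Red.bc (cp W) A) [IsMonHom f] (g : Red.bc (cp W) A ⟶ B) [IsMonHom g]
    (m : ℕ) (hm : (m : IsLocalRing.ResidueField W) ≠ 0)
    (h1 : g ≫ f = (𝟙 (Red.bc (cp W) A)) ^ m) (h2 : f ≫ g = (𝟙 B) ^ m) :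
    ∃ (X : Over (Spec (CommRingCat.of W))) (_ : GrpObj X) (v : A ⟶ X) (w : X ⟶ A) (e : Red.bc (cp W) X ≅ B),
      IsMonHom v ∧ IsMonHom w ∧ IsMonHom e.hom ∧ Smooth X.hom ∧ IsProper X.hom ∧
      GeometricallyConnected X.hom ∧ v ≫ w = (𝟙 A) ^ m ∧ w ≫ v = (𝟙 X) ^ m ∧
      (Over.pullback (cp W)).map v = g ≫ e.inv ∧ (Over.pullback (cp W)).map w = e.hom ≫ f ∧
      IsFinite w.left ∧ Etale w.left ∧ Surjective w.left := by
  obtain ⟨hff, hfe⟩ := finite_etale_of_mul _ (Red.bc (cp W) A) B f g m hm h1 h2
  obtain ⟨X, hG, w, e, hwm, hw1, hw2, hws, hX1, hX2, hXg, heM, he⟩ := exists_isogeny A B f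
  have hei : IsMonHom e.inv := by
    have := (Mon.mkIso' e).inv
    infer_instance
  have hcA : IsCommMonObj A := isCommMonObj_of_smooth A
  have hcX : IsCommMonObj X := isCommMonObj_of_smooth X
  have hmA : IsMonHom ((𝟙 A : A ⟶ A) ^ m) := isMonHom_npow _ m
  have hmw : IsMonHom (w ^ m) := isMonHom_npow _ m
  have hcX' : IsCommMonObj (Red.bc (cp W) X) := isCommMonObj_of_smooth _
  have hmX : IsMonHom ((𝟙 (Red.bc (cp W) X) : Red.bc (cp W) X ⟶ _) ^ m) := isMonHom_npow _ m
  obtain ⟨v, hv1, hv2, hv3, -⟩ := existsUnique_hom w ((𝟙 A) ^ m) (g ≫ e.inv) (by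
    rw [he, Category.assoc, Iso.inv_hom_id_assoc, h1, map_npow', CategoryTheory.Functor.map_id])
  refine ⟨X, hG, v, w, e, hv1, hwm, heM, hX1, hX2, hXg, hv2, ?_, hv3, he, hw1, hw2, hws⟩
  obtain ⟨u, -, -, -, hu⟩ := existsUnique_hom w (w ^ m) ((𝟙 (Red.bc (cp W) X)) ^ m) (by
    rw [MonObj.pow_comp, Category.id_comp, map_npow])
  refine (hu (w ≫ v) ?_ ?_).trans (hu ((𝟙 X) ^ m) ?_ ?_).symm
  · rw [Category.assoc, hv2, MonObj.comp_pow, Category.comp_id]
  · rw [Functor.map_comp, hv3, he, Category.assoc, ← Category.assoc f, h2, MonObj.pow_comp,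
      MonObj.comp_pow, Category.id_comp, Iso.hom_inv_id]
  · rw [MonObj.pow_comp, Category.id_comp]
  · rw [map_npow', CategoryTheory.Functor.map_id]

end K613.EtMain
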