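import Groth.Agent.AbVar.K510.HT.EigSpec
import Groth.Agent.AbVar.K511.HT.BC
import Groth.Agent.AbSch.K451.Prod

/-!
# Geometry for the assembly of the Honda–Tate existence theorem

Fibres of abelian schemes, and the base change of the property `Eig` along an extension of fields.
-/

set_option autoImplicit false
universe u
open CategoryTheory CategoryTheory.Limits MonoidalCategory CartesianMonoidalCategory MonObj GrpObj AlgebraicGeometry
open LieS K988.LieModel

namespace K613.QgGeo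

open K511.HT

theorem dim_of_isAbSch {K : Type u} [Field K] {B : Over (Spc K)} {g : ℕ} (h : AgPol.IsAbSch B g) :
    topologicalKrullDim B.left = g := by
  let s : Spc K := IsLocalRing.closedPoint K
  have h1 : B.hom ⁻¹' {s} = Set.univ := by
    ext x
    simp only [Set.mem_preimage, Set.mem_singleton_iff, Set.mem_univ, iff_true]
    exact Subsingleton.elim _ _
  rw [← h.fibreDim s]
  exact (IsHomeomorph.topologicalKrullDim_eq _
    (((B.hom.fiberHomeo s).trans (Homeomorph.setCongr h1)).trans (Homeomorph.Set.univ _)).isHomeomorph).symm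

/-- The fibres of an abelian scheme are abelian varieties. -/
theorem fibre {S : Scheme.{u}} {K : Type u} [Field K] (t : Spc K ⟶ S) (X : Over S) [GrpObj X] {g : ℕ}
    (h : AgPol.IsAbSch X g) :
    IsProper (Red.bc t X).hom ∧ GeometricallyIntegral (Red.bc t X).hom ∧
      topologicalKrullDim (Red.bc t X).left = g := by
  have h1 := isAbSch_bc t h
  exact ⟨h1.proper, K451.Prod.geometricallyIntegral_of_isAbSch h1, dim_of_isAbSch h1⟩

/-- Occurrence of a character in the Lie algebra is invariant under isomorphisms. -/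
theorem eig_of_iso {K : Type u} [CommRing K] {A B : Over (Spc K)} [GrpObj A] [IsCommMonObj A] [GrpObj B]
    [IsCommMonObj B] (e : B ≅ A) [IsMonHom e.hom] {O : Type} [CommRing O] (ρ : O →+* EndAV.End A)
    (σ : O →+* EndAV.End B) (hρ : ∀ b, (σ b).toHom ≫ e.hom = e.hom ≫ (ρ b).toHom) (φ : O →+* K)
    (h : Eig K A ρ φ) : Eig K B σ φ := by
  rw [eig_iff] at h ⊢
  obtain ⟨v, hv, hv'⟩ := h
  let E : EndAV.Hom A B := EndAV.Hom.of e.inv
  let E' : EndAV.Hom B A := EndAV.Hom.of e.hom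
  have h1 : (E ≫ E' : EndAV.Hom A A) = 𝟙 (CommGrp.mk A) := EndAV.Hom.ext e.inv_hom_id
  have h2 : lieMap (𝟙 (Spc K)) E' (lieMap (𝟙 (Spc K)) E v) = v := by
    have h3 := lieMap_comp (𝟙 (Spc K)) E E'
    rw [h1, lieMap_id] at h3
    exact (LinearMap.congr_fun h3 v).symm
  refine ⟨lieMap (𝟙 (Spc K)) E v, fun h0 => hv ?_, fun b => ?_⟩
  · rw [← h2, h0, map_zero]
  · have h3 : (E ≫ (σ b) : EndAV.Hom A B) = (ρ b) ≫ E := by
      apply EndAV.Hom.ext
      change e.inv ≫ (σ b).toHom = (ρ b).toHom ≫ e.inv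
      rw [Iso.inv_comp_eq, ← Category.assoc, Iso.eq_comp_inv]
      exact hρ b
    have h4 := lieMap_comp (𝟙 (Spc K)) E (σ b)
    have h5 := lieMap_comp (𝟙 (Spc K)) (ρ b) E
    rw [h3, h5] at h4
    have h6 := LinearMap.congr_fun h4 v
    rw [LinearMap.comp_apply, LinearMap.comp_apply] at h6
    change lieMap (𝟙 (Spc K)) (σ b) (lieMap (𝟙 (Spc K)) E v) = _
    rw [← h6]
    have h7 := hv' b
    change lieMap (𝟙 (Spc K)) (ρ b) v = _ at h7
    rw [h7, map_smul]

/-- Base change of eigenvectors along a field extension. -/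
theorem eig_bc {K K' : Type u} [Field K] [Field K'] (t : K →+* K') (X : Over (Spc K)) [GrpObj X] [IsCommMonObj X]
    [Smooth X.hom] {O : Type} [CommRing O] (Θ : O →+* EndAV.End X) (φ : O →+* K) (hK : Eig K X Θ φ) :
    Eig K' (Red.bc (spm t) X) ((bcEnd (spm t) X).comp Θ) (t.comp φ) := by
  obtain ⟨g, ⟨c⟩⟩ := K510.HT.EigSpec.exists_chart X
  rw [eig_iff] at hK
  have h1 : (∃ v : LL (𝟙 (Spc K)) X, v ≠ 0 ∧ ∀ b, lieEnd (𝟙 (Spc K)) X (Θ b) v = (RingHom.id K) (φ b) • v) := hK
  rw [K510.HT.EigSpec.eig_iff_rows c (RingHom.id K) Θ φ (𝟙 (Spc K))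
    (by rw [Category.comp_id]; exact (Spec.map_id _).symm)] at h1
  obtain ⟨w, hw, hw'⟩ := h1
  have h2 : ∃ w : Fin g → K', w ≠ 0 ∧ ∀ r ∈ K510.HT.EigSpec.rows c Θ φ, ∑ i, t (r i) * w i = 0 := by
    refine ⟨fun i => t (w i), fun h0 => hw (funext fun i => ?_), fun r hr => ?_⟩
    · exact t.injective ((congrFun h0 i).trans (map_zero t).symm)
    · rw [← map_zero t, ← hw' r hr, map_sum]
      exact Finset.sum_congr rfl fun i _ => (map_mul t _ _).symm
  rw [← K510.HT.EigSpec.eig_iff_rows c t Θ φ (𝟙 (Spc K') ≫ spm t)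
    (by rw [Category.id_comp, Category.comp_id])] at h2
  rw [eig_iff]
  obtain ⟨v, hv, hv'⟩ := h2
  refine ⟨(lieBc (spm t) (𝟙 (Spc K')) X).symm v, fun h0 => hv ((LinearEquiv.map_eq_zero_iff _).1 h0), fun b => ?_⟩
  apply (lieBc (spm t) (𝟙 (Spc K')) X).injective
  change lieBc (spm t) (𝟙 (Spc K')) X (lieEnd (𝟙 (Spc K')) _ (bcEnd (spm t) X (Θ b)) _) = _
  rw [lieBc_lieEnd, LinearEquiv.apply_symm_apply, hv' b]
  exact ((map_smul (lieBc (spm t) (𝟙 (Spc K')) X) (t (φ b)) _).trans (by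
    rw [LinearEquiv.apply_symm_apply])).symm

end K613.QgGeo
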