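import Groth.Agent.AbVar.K511.HT.Iface
import Mathlib.RingTheory.AdjoinRoot
import Mathlib.NumberTheory.NumberField.CMField
import Mathlib.LinearAlgebra.FreeModule.IdealQuotient

/-!
# Number theory for the assembly of the Honda–Tate existence theorem
-/

set_option autoImplicit false
set_option linter.unusedSectionVars false
open scoped NumberField Polynomial

namespace K613.QgNum

open K511.HT

theorem good_mul {F : Type} [Field F] [NumberField F] {d : 𝓞 F} {r : ℕ} (h : Good F d r) {m : ℕ} (hm : ¬ r ∣ m) :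
    Good F ((m : 𝓞 F) ^ 2 * d) r where
  prime := h.prime
  mod4 := h.mod4
  norm := h.norm
  unram := h.unram
  unit v hv hr hd := by
    have hp := hv.isPrime
    rcases hp.mem_or_mem hd with h1 | h1
    · have h2 := hp.mem_of_pow_mem _ h1
      have h3 : Nat.Coprime r m := (Nat.Prime.coprime_iff_not_dvd h.prime).2 hm
      apply hp.ne_top
      rw [Ideal.eq_top_iff_one]
      have h4 := Nat.isCoprime_iff_coprime.2 h3
      obtain ⟨a, b, hab⟩ := h4
      have h5 : ((a : 𝓞 F) * (r : 𝓞 F) + (b : 𝓞 F) * (m : 𝓞 F)) = 1 := by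
        exact_mod_cast congrArg (Int.cast : ℤ → 𝓞 F) hab
      rw [← h5]
      exact v.add_mem (v.mul_mem_left _ hr) (v.mul_mem_left _ h2)
    · exact h.unit v hv hr h1
  sq v hv hr := by
    obtain ⟨s, hs⟩ := h.sq v hv hr
    refine ⟨m * s, ?_⟩
    have h1 : ((m : 𝓞 F) * s) ^ 2 - (m : 𝓞 F) ^ 2 * d = (m : 𝓞 F) ^ 2 * (s ^ 2 - d) := by ring
    rw [h1]
    exact v.mul_mem_left _ hs

theorem exists_max (p : ℕ) (hp : p.Prime) (M : Type) [Field M] [NumberField M] :
    ∃ 𝔓 : Ideal (𝓞 M), 𝔓.IsMaximal ∧ (p : 𝓞 M) ∈ 𝔓 := by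
  have h1 : ¬ IsUnit ((p : ℕ) : 𝓞 M) := by
    intro hu
    have h2 : IsUnit (Algebra.norm ℤ ((p : ℕ) : 𝓞 M)) := hu.map (Algebra.norm ℤ)
    have h3 : Algebra.norm ℤ ((p : ℕ) : 𝓞 M) = (p : ℤ) ^ Module.finrank ℤ (𝓞 M) := by
      have h4 := Algebra.norm_algebraMap (R := ℤ) (S := 𝓞 M) (p : ℤ)
      rw [← h4]
      congr 1
      exact (map_natCast (algebraMap ℤ (𝓞 M)) p).symm
    rw [h3, isUnit_pow_iff Module.finrank_pos.ne'] at h2
    exact (Nat.prime_iff_prime_int.1 hp).not_isUnit h2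
  obtain ⟨𝔓, h𝔓, h2⟩ := exists_max_ideal_of_mem_nonunits h1
  exact ⟨𝔓, h𝔓, h2⟩

theorem card_cm {L M : Type} [Field L] [Field M] [Finite (L →+* M)] (c : L ≃+* L) (hc : ∀ x, c (c x) = x)
    (Φ : Set (L →+* M)) (hΦ : ∀ φ : L →+* M, φ ∈ Φ ↔ φ.comp (c : L →+* L) ∉ Φ) :
    Nat.card (L →+* M) = 2 * Nat.card Φ := by
  classical
  have hcc (φ : L →+* M) : (φ.comp (c : L →+* L)).comp (c : L →+* L) = φ := RingHom.ext fun x => by
    change φ (c (c x)) = φ x
    rw [hc]
  let e : Φ ≃ (Φᶜ : Set (L →+* M)) :=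
    { toFun := fun φ => ⟨φ.1.comp (c : L →+* L), (hΦ φ.1).1 φ.2⟩
      invFun := fun φ => ⟨φ.1.comp (c : L →+* L), by
        rw [hΦ, hcc]
        exact φ.2⟩
      left_inv := fun φ => Subtype.ext (hcc φ.1)
      right_inv := fun φ => Subtype.ext (hcc φ.1) }
  have h1 : Nat.card (L →+* M) = Nat.card Φ + Nat.card (Φᶜ : Set (L →+* M)) := by
    rw [← Nat.card_sum]
    exact Nat.card_congr (Equiv.Set.sumCompl Φ).symm
  rw [h1, ← Nat.card_congr e]
  ring

section order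

variable {F L : Type} [Field F] [NumberField F] [Field L] [NumberField L] [Algebra F L] (δ : 𝓞 F) (s : 𝓞 L)

/-- The ring homomorphism from `𝓞 F[√-δ]` to the ring of integers of `L`. -/
noncomputable def inc (hs : (s : L) ^ 2 = -algebraMap F L δ) :
    AdjoinRoot (Polynomial.X ^ 2 + Polynomial.C δ : (𝓞 F)[X]) →+* 𝓞 L :=
  AdjoinRoot.lift (NumberField.RingOfIntegers.mapRingHom (algebraMap F L)) s (by
    rw [Polynomial.eval₂_add, Polynomial.eval₂_pow, Polynomial.eval₂_X, Polynomial.eval₂_C]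
    apply NumberField.RingOfIntegers.coe_injective
    rw [map_add, map_pow, map_zero, hs]
    exact neg_add_cancel _)

variable {δ s} (hs : (s : L) ^ 2 = -algebraMap F L δ)

theorem inc_root : inc δ s hs (AdjoinRoot.root _) = s := AdjoinRoot.lift_root _

theorem inc_of (a : 𝓞 F) : (inc δ s hs (AdjoinRoot.of _ a) : L) = algebraMap F L a := by
  rw [inc, AdjoinRoot.lift_of]
  rfl

theorem monic (δ : 𝓞 F) : (Polynomial.X ^ 2 + Polynomial.C δ : (𝓞 F)[X]).Monic :=
  Polynomial.monic_X_pow_add_C δ two_ne_zero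

theorem exists_repr (y : AdjoinRoot (Polynomial.X ^ 2 + Polynomial.C δ : (𝓞 F)[X])) :
    ∃ a b : 𝓞 F, y = AdjoinRoot.of _ a + AdjoinRoot.of _ b * AdjoinRoot.root _ := by
  obtain ⟨q, rfl⟩ := AdjoinRoot.mk_surjective y
  have h1 : AdjoinRoot.mk (Polynomial.X ^ 2 + Polynomial.C δ : (𝓞 F)[X]) q =
      AdjoinRoot.mk _ (q %ₘ (Polynomial.X ^ 2 + Polynomial.C δ : (𝓞 F)[X])) := by
    rw [AdjoinRoot.mk_eq_mk]
    refine ⟨q /ₘ (Polynomial.X ^ 2 + Polynomial.C δ), ?_⟩
    have h2 := Polynomial.modByMonic_add_div q (Polynomial.X ^ 2 + Polynomial.C δ : (𝓞 F)[X])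
    linear_combination -h2
  have h2 : (q %ₘ (Polynomial.X ^ 2 + Polynomial.C δ : (𝓞 F)[X])).natDegree ≤ 1 := by
    have h5 : (Polynomial.X ^ 2 + Polynomial.C δ : (𝓞 F)[X]).natDegree = 2 := Polynomial.natDegree_X_pow_add_C
    have h3 := Polynomial.natDegree_modByMonic_lt q (monic δ) (fun h0 => by
      rw [h0, Polynomial.natDegree_one] at h5
      omega)
    omega
  have h3 := Polynomial.exists_eq_X_add_C_of_natDegree_le_one h2
  obtain ⟨b, a, h4⟩ := h3
  refine ⟨a, b, ?_⟩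
  rw [h1, h4, map_add, map_mul, AdjoinRoot.mk_X, AdjoinRoot.mk_C, AdjoinRoot.mk_C]
  exact add_comm _ _

theorem inc_repr (a b : 𝓞 F) : (inc δ s hs (AdjoinRoot.of _ a + AdjoinRoot.of _ b * AdjoinRoot.root _) : L) =
    algebraMap F L a + algebraMap F L b * s := by
  rw [← inc_of hs a, ← inc_of hs b, map_add, map_mul, inc_root]
  exact (map_add (algebraMap (𝓞 L) L) _ _).trans (congrArg _ (map_mul (algebraMap (𝓞 L) L) _ _))

theorem inc_injective (c : L ≃+* L) (hs0 : s ≠ 0) (hcs : c s = -s)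
    (hcF : ∀ x : F, c (algebraMap F L x) = algebraMap F L x) : Function.Injective (inc δ s hs) := by
  rw [injective_iff_map_eq_zero]
  intro y hy
  obtain ⟨a, b, rfl⟩ := exists_repr y
  have h1 : algebraMap F L a + algebraMap F L b * s = 0 := by
    rw [← inc_repr hs, hy]
    rfl
  have h2 : algebraMap F L a - algebraMap F L b * s = 0 := by
    have h3 := congrArg c h1
    rw [map_add, map_mul, hcF, hcF, hcs, map_zero] at h3
    linear_combination h3
  have h3 : algebraMap F L a = 0 := by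
    have h4 : (2 : L) * algebraMap F L a = 0 := by linear_combination h1 + h2
    exact (mul_eq_zero.1 h4).resolve_left two_ne_zero
  have h4 : algebraMap F L b = 0 := by
    rw [h3, zero_add] at h1
    refine (mul_eq_zero.1 h1).resolve_right fun h => hs0 ?_
    exact NumberField.RingOfIntegers.coe_injective (h.trans (map_zero _).symm)
  have h5 : a = 0 := NumberField.RingOfIntegers.coe_injective
    (((map_eq_zero (algebraMap F L)).1 h3).trans (map_zero _).symm)
  have h6 : b = 0 := NumberField.RingOfIntegers.coe_injective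
    (((map_eq_zero (algebraMap F L)).1 h4).trans (map_zero _).symm)
  rw [h5, h6]
  simp

theorem exists_int (F : Type) [Field F] [NumberField F] (a : F) : ∃ (k : ℕ) (a' : 𝓞 F), k ≠ 0 ∧ (k : F) * a = a' := by
  have h1 : IsAlgebraic ℤ a := by
    have h2 : IsAlgebraic ℚ a := Algebra.IsAlgebraic.isAlgebraic a
    exact (IsFractionRing.isAlgebraic_iff ℤ ℚ F).2 h2
  obtain ⟨y, hy, x⟩ := h1.exists_integral_multiple
  obtain ⟨k, hk⟩ : ∃ k : ℕ, (k : ℤ) = |y| := ⟨y.natAbs, by simp⟩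
  have hk0 : k ≠ 0 := by
    rintro rfl
    apply hy
    rw [← abs_eq_zero, ← hk]
    rfl
  have h3 : IsIntegral ℤ ((k : F) * a) := by
    rcases abs_choice y with h | h
    · rw [h] at hk
      have h4 : (k : F) * a = y • a := by
        rw [← hk]
        simp
      rw [h4]
      exact x
    · rw [h] at hk
      have h4 : (k : F) * a = -(y • a) := by
        rw [← neg_smul, ← hk]
        simp
      rw [h4]
      exact x.neg
  exact ⟨k, ⟨_, h3⟩, hk0, rfl⟩

theorem exists_num (hL : ∀ x : L, ∃ a b : F, x = algebraMap F L a + algebraMap F L b * s) :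
    ∃ n : ℕ, n ≠ 0 ∧ ∀ x : 𝓞 L, ∃ y, inc δ s hs y = n * x := by
  classical
  have h1 (x : 𝓞 L) : ∃ n : ℕ, n ≠ 0 ∧ ∃ y, inc δ s hs y = n * x := by
    obtain ⟨a, b, hab⟩ := hL x
    obtain ⟨k, a', hk, ha'⟩ := exists_int F a
    obtain ⟨l, b', hl, hb'⟩ := exists_int F b
    refine ⟨k * l, mul_ne_zero hk hl, AdjoinRoot.of _ (l * a') + AdjoinRoot.of _ (k * b') * AdjoinRoot.root _, ?_⟩
    apply NumberField.RingOfIntegers.coe_injective
    refine (inc_repr hs _ _).trans ?_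
    have e1 : ((l * a' : 𝓞 F) : F) = l * (k * a) := by
      rw [ha']
      simp
    have e2 : ((k * b' : 𝓞 F) : F) = k * (l * b) := by
      rw [hb']
      simp
    rw [e1, e2]
    have e3 : algebraMap (𝓞 L) L (((k * l : ℕ) : 𝓞 L) * x) = (k * l : ℕ) * (x : L) := by
      rw [map_mul, map_natCast]
    rw [e3, hab]
    simp only [map_mul, map_natCast]
    push_cast
    ring
  obtain ⟨S, hS⟩ := (inferInstance : Module.Finite ℤ (𝓞 L)).fg_top
  choose k hk hk' using h1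
  refine ⟨∏ x ∈ S, k x, Finset.prod_ne_zero_iff.2 fun x _ => hk x, fun x => ?_⟩
  have hx : x ∈ Submodule.span ℤ (S : Set (𝓞 L)) := by
    rw [hS]
    trivial
  induction hx using Submodule.span_induction with
  | mem x hx =>
    obtain ⟨y, hy⟩ := hk' x
    refine ⟨(∏ z ∈ S.erase x, k z : ℕ) * y, ?_⟩
    rw [map_mul, map_natCast, hy, ← Finset.mul_prod_erase S k hx]
    push_cast
    ring
  | zero => exact ⟨0, by rw [map_zero, mul_zero]⟩
  | add x y _ _ hx hy =>
    obtain ⟨a, ha⟩ := hx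
    obtain ⟨b, hb⟩ := hy
    exact ⟨a + b, by rw [map_add, ha, hb, mul_add]⟩
  | smul t x _ hx =>
    obtain ⟨a, ha⟩ := hx
    refine ⟨t * a, ?_⟩
    rw [map_mul, map_intCast, ha, zsmul_eq_mul]
    ring

end order

theorem pow_inj {L : Type} [Field L] [NumberField L] {p : ℕ} (hp : p ≠ 0) {𝔭 : Ideal (𝓞 L)} (h : 𝔭.IsMaximal)
    (hp' : (p : 𝓞 L) ∈ 𝔭) {m n : ℕ} (e : Nat.card (𝓞 L ⧸ 𝔭) ^ m = Nat.card (𝓞 L ⧸ 𝔭) ^ n) : m = n := by
  have h1 : 𝔭 ≠ ⊥ := by
    rintro rfl
    rw [Ideal.mem_bot, Nat.cast_eq_zero] at hp'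
    exact hp hp'
  have h2 : Finite (𝓞 L ⧸ 𝔭) := Ideal.finiteQuotientOfFreeOfNeBot 𝔭 h1
  have h3 : Nontrivial (𝓞 L ⧸ 𝔭) := Ideal.Quotient.nontrivial_iff.2 h.ne_top
  exact Nat.pow_right_injective (Finite.one_lt_card (α := 𝓞 L ⧸ 𝔭)) e

end K613.QgNum
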