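import Groth.Agent.AbVar.K613.QgGeo
import Groth.Agent.AbVar.K613.QgNum
import Groth.Agent.AbVar.K511.HT.Iface4

/-!
# The node `HTQG` of the proof of the Honda–Tate theorem: the assembly of `HTQ`
-/

set_option autoImplicit false
universe u
open CategoryTheory CategoryTheory.Limits MonoidalCategory CartesianMonoidalCategory MonObj GrpObj AlgebraicGeometry
open scoped NumberField Polynomial

namespace K613.QgMain

open K511.HT

/-- From a complex multiplication abelian scheme over `W` to an abelian variety over a number field with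
multiplication by the maximal order. -/
theorem step1 (hSP : SP.{u}) (hOL : OL.{u}) (F : Type) [Field F] [NumberField F]
    (δ : 𝓞 F) (L : Type) [Field L] [NumberField L] [Algebra F L] (s : 𝓞 L)
    (hs : (s : L) ^ 2 = -algebraMap F L δ) (c : L ≃+* L) (hs0 : s ≠ 0) (hcs : c s = -s)
    (hcF : ∀ x : F, c (algebraMap F L x) = algebraMap F L x)
    (hL : ∀ x : L, ∃ a b : F, x = algebraMap F L a + algebraMap F L b * s)
    (M : Type) [Field M] [NumberField M] (K : Type u) [Field K] [CharZero K] (ε : M →+* K)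
    (A : Over (Spc K)) [GrpObj A] [IsCommMonObj A] [IsProper A.hom] [GeometricallyIntegral A.hom] (g : ℕ)
    (hg : topologicalKrullDim A.left = g) (ρ : OD F δ →+* EndAV.End A) [Finite (L →+* M)] (Φ : Set (L →+* M))
    (hΦ : ∀ φ ∈ Φ, Eig K A ρ (ε.comp ((φ.comp (algebraMap (𝓞 L) L)).comp (QgNum.inc δ s hs)))) :
    ∃ (K' : Type u) (_ : Field K') (_ : CharZero K') (_ : NumberField K') (j' : M →+* K')
    (A' : Over (Spc K')) (_ : GrpObj A') (_ : IsCommMonObj A') (_ : IsProper A'.hom)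
    (_ : GeometricallyIntegral A'.hom) (_ : topologicalKrullDim A'.left = g) (ρ' : 𝓞 L →+* EndAV.End A'),
    ∀ φ ∈ Φ, Eig K' A' ρ' (j'.comp (φ.comp (algebraMap (𝓞 L) L))) := by
  classical
  have hfin : Module.Finite ℤ (OD F δ) := by
    have h1 : Module.Finite (𝓞 F) (OD F δ) := (QgNum.monic δ).finite_adjoinRoot
    exact Module.Finite.trans (𝓞 F) _
  have hΦf : Φ.Finite := Set.toFinite Φ
  obtain ⟨K', _, _, _, j', A', _, _, _, _, hg', ρ', h1⟩ := hSP M K ε A g hg (OD F δ) ρ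
    (hΦf.toFinset.image fun φ => (φ.comp (algebraMap (𝓞 L) L)).comp (QgNum.inc δ s hs)) (by
      intro φ' hφ'
      obtain ⟨φ, hφ, rfl⟩ := Finset.mem_image.1 hφ'
      exact hΦ φ ((Set.Finite.mem_toFinset hΦf).1 hφ))
  obtain ⟨n, hn, hn'⟩ := QgNum.exists_num hs hL
  obtain ⟨A'', _, _, _, _, hg'', ρ'', h2⟩ := hOL K' A' g hg' L (OD F δ) (QgNum.inc δ s hs) n hn
    (QgNum.inc_injective hs c hs0 hcs hcF) hn' ρ'
    (hΦf.toFinset.image fun φ => j'.comp (φ.comp (algebraMap (𝓞 L) L))) (by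
      intro φ' hφ'
      obtain ⟨φ, hφ, rfl⟩ := Finset.mem_image.1 hφ'
      rw [RingHom.comp_assoc]
      exact h1 ((φ.comp (algebraMap (𝓞 L) L)).comp (QgNum.inc δ s hs)) (Finset.mem_image_of_mem _ hφ))
  refine ⟨K', inferInstance, inferInstance, inferInstance, j', A'', inferInstance, inferInstance, inferInstance,
    inferInstance, hg'', ρ'', fun φ hφ => h2 _ (Finset.mem_image_of_mem _ ((Set.Finite.mem_toFinset hΦf).2 hφ))⟩

/-- The restriction to the rings of integers of an embedding `L → M`, followed by `𝓞 M → V`. -/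
noncomputable def res {L M : Type} [Field L] [Field M] {V : Type u} [CommRing V] (jV : 𝓞 M →+* V) (φ : L →+* M) :
    𝓞 L →+* V := jV.comp (NumberField.RingOfIntegers.mapRingHom φ)

theorem res_comp {L M : Type} [Field L] [Field M] {V K : Type u} [CommRing V] [CommRing K] (jV : 𝓞 M →+* V)
    (b : V →+* K) (j : M →+* K) (h : ∀ x : 𝓞 M, b (jV x) = j x) (φ : L →+* M) :
    b.comp (res jV φ) = j.comp (φ.comp (algebraMap (𝓞 L) L)) := by
  ext x
  exact h _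

theorem res_injective {L M : Type} [Field L] [Field M] [NumberField L] {V K : Type u} [CommRing V] [Field K]
    (jV : 𝓞 M →+* V) (b : V →+* K) (j : M →+* K) (h : ∀ x : 𝓞 M, b (jV x) = j x) :
    Function.Injective (res (L := L) jV) := by
  intro φ φ' e
  have h1 := res_comp jV b j h φ
  rw [e, res_comp jV b j h φ'] at h1
  have h2 : φ'.comp (algebraMap (𝓞 L) L) = φ.comp (algebraMap (𝓞 L) L) := by
    ext x
    exact j.injective (RingHom.congr_fun h1 x)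
  exact (IsLocalization.ringHom_ext (nonZeroDivisors (𝓞 L)) h2).symm

theorem card_res {L M : Type} [Field L] [Field M] [NumberField L] [NumberField M] {V K : Type u} [CommRing V] [Field K]
    (jV : 𝓞 M →+* V) (b : V →+* K) (j : M →+* K) (h : ∀ x : 𝓞 M, b (jV x) = j x) (𝔪 : Ideal V) (𝔓 : Ideal (𝓞 M))
    (h𝔓 : 𝔪.comap jV = 𝔓) (Φ : Set (L →+* M)) (Φ' : Finset (𝓞 L →+* V))
    (hΦ : ∀ ψ, ψ ∈ Φ' ↔ ∃ φ ∈ Φ, res jV φ = ψ) (𝔭 : Ideal (𝓞 L)) :
    Nat.card {φ : 𝓞 L →+* V // φ ∈ Φ' ∧ 𝔪.comap φ = 𝔭} =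
      Nat.card {φ : L →+* M // φ ∈ Φ ∧ 𝔓.comap (NumberField.RingOfIntegers.mapRingHom φ) = 𝔭} := by
  have hc (φ : L →+* M) : 𝔪.comap (res jV φ) = 𝔓.comap (NumberField.RingOfIntegers.mapRingHom φ) := by
    rw [res, ← h𝔓, Ideal.comap_comap]
  refine (Nat.card_congr (Equiv.ofBijective
    (fun φ => ⟨res jV φ.1, (hΦ _).2 ⟨φ.1, φ.2.1, rfl⟩, (hc φ.1).trans φ.2.2⟩) ⟨fun φ φ' e => ?_, fun ψ => ?_⟩)).symm
  · exact Subtype.ext (res_injective jV b j h (congrArg Subtype.val e))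
  · obtain ⟨φ, hφ, e⟩ := (hΦ _).1 ψ.2.1
    refine ⟨⟨φ, hφ, ?_⟩, Subtype.ext e⟩
    rw [← hc, e]
    exact ψ.2.2

/-- The reduction at a place over `𝔓` and the formula of Shimura and Taniyama. -/
theorem step2 (hNT4 : NT4) (hRED : RED.{u}) (hST : K511.HT.ST.{u}) (hWEIL : WEIL.{u}) (p : ℕ) [Fact p.Prime]
    (L : Type) [Field L] [NumberField L] (ϖ : 𝓞 L) (habs : ∀ σ : L →+* ℂ, ‖σ ϖ‖ ^ 2 = p)
    (M : Type) [Field M] [NumberField M] (𝔓 : Ideal (𝓞 M)) [𝔓.IsMaximal] (h𝔓 : (p : 𝓞 M) ∈ 𝔓)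
    (Φ : Set (L →+* M)) [Finite (L →+* M)]
    (hc : ∀ 𝔭 : Ideal (𝓞 L), 𝔭.IsMaximal → (p : 𝓞 L) ∈ 𝔭 →
      Nat.card (𝓞 L ⧸ 𝔭) ^ ord 𝔭 ϖ =
        p ^ Nat.card {φ : L →+* M // φ ∈ Φ ∧ 𝔓.comap (NumberField.RingOfIntegers.mapRingHom φ) = 𝔭})
    (g : ℕ) (hg0 : g ≠ 0) (hL : Module.finrank ℚ L = 2 * g) (hΦg : Nat.card Φ = g)
    (K' : Type u) [Field K'] [CharZero K'] [NumberField K'] (j' : M →+* K')
    (A' : Over (Spc K')) [GrpObj A'] [IsCommMonObj A'] [IsProper A'.hom] [GeometricallyIntegral A'.hom]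
    (hg : topologicalKrullDim A'.left = g) (ρ' : 𝓞 L →+* EndAV.End A')
    (hE : ∀ φ ∈ Φ, Eig K' A' ρ' (j'.comp (φ.comp (algebraMap (𝓞 L) L)))) :
    ∃ (a m : ℕ) (_ : a ≠ 0) (_ : m ≠ 0) (κ : Type u) (_ : Field κ) (_ : Finite κ) (_ : Nat.card κ = p ^ a)
    (A : Over (Spc κ)) (_ : GrpObj A) (_ : IsCommMonObj A) (_ : IsProper A.hom) (_ : GeometricallyIntegral A.hom)
    (g : ℕ) (_ : topologicalKrullDim A.left = g) (_ : Module.finrank ℚ L = 2 * g)
    (ρ : 𝓞 L →+* EndAV.End A) (π₀ : 𝓞 L), IsFrob (p ^ a) (ρ π₀).toHom ∧ π₀ ^ m = ϖ ^ (a * m) := by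
  classical
  have hp : p.Prime := Fact.out
  have h𝔓0 : 𝔓 ≠ ⊥ := by
    rintro rfl
    rw [Ideal.mem_bot, Nat.cast_eq_zero] at h𝔓
    exact hp.ne_zero h𝔓
  obtain ⟨V, _, _, _, _, hfin, jV, t, X, _, _, hX, ρ₁, e, _, hV1, hV2, hV3⟩ :=
    hRED M 𝔓 K' j' A' g hg L hL ρ' h𝔓0
  -- the residue field
  have hp0 : ((p : ℕ) : IsLocalRing.ResidueField V) = 0 := by
    have h1 : (p : V) ∈ IsLocalRing.maximalIdeal V := by
      rw [← hV2, Ideal.mem_comap, map_natCast] at h𝔓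
      exact h𝔓
    rw [← IsLocalRing.residue_eq_zero_iff, map_natCast] at h1
    exact h1
  obtain ⟨a, ha, hcard⟩ : ∃ a : ℕ, a ≠ 0 ∧ Nat.card (IsLocalRing.ResidueField V) = p ^ a := by
    have := Fintype.ofFinite (IsLocalRing.ResidueField V)
    have hch : CharP (IsLocalRing.ResidueField V) p := by
      have h1 := CharP.exists (IsLocalRing.ResidueField V)
      obtain ⟨q, hq⟩ := h1
      have h2 : q ∣ p := (CharP.cast_eq_zero_iff _ q p).1 hp0
      rcases (Nat.dvd_prime hp).1 h2 with h3 | h3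
      · exact absurd h3 (CharP.char_ne_one (IsLocalRing.ResidueField V) q)
      · subst h3
        exact hq
    obtain ⟨n, -, hn⟩ := FiniteField.card (IsLocalRing.ResidueField V) p
    exact ⟨n, n.ne_zero, by rw [Nat.card_eq_fintype_card, hn]⟩
  -- the characters
  have hb (x : 𝓞 M) : algebraMap V (FractionRing V) (jV x) = (t.comp j') x := hV1 x
  have hΦf : Φ.Finite := Set.toFinite Φ
  let Φ' : Finset (𝓞 L →+* V) := hΦf.toFinset.image (res jV)
  have hΦ' (ψ : 𝓞 L →+* V) : ψ ∈ Φ' ↔ ∃ φ ∈ Φ, res jV φ = ψ := by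
    rw [Finset.mem_image]
    constructor
    · rintro ⟨φ, hφ, h⟩
      exact ⟨φ, (Set.Finite.mem_toFinset hΦf).1 hφ, h⟩
    · rintro ⟨φ, hφ, h⟩
      exact ⟨φ, (Set.Finite.mem_toFinset hΦf).2 hφ, h⟩
  have hcard' : Φ'.card = g := by
    rw [Finset.card_image_of_injective _ (res_injective jV (algebraMap V (FractionRing V)) (t.comp j') hb), ← hΦg,
      Nat.card_eq_card_finite_toFinset hΦf]
  have hsm : Smooth A'.hom := by
    have gA : GrpObj (Over.mk A'.hom) := ‹GrpObj A'›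
    exact smooth_of_grpObj A'.hom
  obtain ⟨π₀, hfrob, hST'⟩ := hST p a ha V hcard X g hX L hL ρ₁ Φ' hcard' (by
    intro ψ hψ
    obtain ⟨φ, hφ, rfl⟩ := (hΦ' ψ).1 hψ
    have h1 := QgGeo.eig_bc t A' ρ' _ (hE φ hφ)
    have h2 := QgGeo.eig_of_iso e ((bcEnd (spm t) A').comp ρ')
      ((bcEnd (spm (algebraMap V (FractionRing V))) X).comp ρ₁) hV3 _ h1
    rw [res_comp jV (algebraMap V (FractionRing V)) (t.comp j') hb]
    rw [← RingHom.comp_assoc] at h2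
    exact h2)
  obtain ⟨f1, f2, f3⟩ := QgGeo.fibre (spm (IsLocalRing.residue V)) X hX
  have hord (𝔭 : Ideal (𝓞 L)) (hm : 𝔭.IsMaximal) (hp' : (p : 𝓞 L) ∈ 𝔭) : ord 𝔭 π₀ = a * ord 𝔭 ϖ := by
    refine QgNum.pow_inj hp.ne_zero hm hp' ?_
    rw [hST' 𝔭 hm hp', card_res jV (algebraMap V (FractionRing V)) (t.comp j') hb _ 𝔓 hV2 Φ Φ' hΦ' 𝔭, mul_comm a,
      pow_mul, hc 𝔭 hm hp', ← pow_mul, ← pow_mul, mul_comm]
  have hw (σ : L →+* ℂ) : ‖σ π₀‖ ^ 2 = p ^ a := by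
    have h1 := hWEIL (p ^ a) (IsLocalRing.ResidueField V) hcard (Red.bc (spm (IsLocalRing.residue V)) X)
      (by
        rw [f3]
        exact_mod_cast hg0) L ((bcEnd (spm (IsLocalRing.residue V)) X).comp ρ₁) π₀ hfrob σ
    rw [h1]
    push_cast
    rfl
  obtain ⟨m, hm, hm'⟩ := hNT4 p a ha L ϖ π₀ habs hw hord
  exact ⟨a, m, ha, hm, IsLocalRing.ResidueField V, inferInstance, hfin, hcard,
    Red.bc (spm (IsLocalRing.residue V)) X, inferInstance, inferInstance, f1, f2, g, f3, hL,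
    (bcEnd (spm (IsLocalRing.residue V)) X).comp ρ₁, π₀, hfrob, hm'⟩

/-- The homomorphism `𝓞 F[√-δ] → W` with given restriction to `𝓞 F`. -/
theorem exists_lift {F : Type} [Field F] [NumberField F] {W : Type u} [CommRing W] (δ : 𝓞 F) (φ₀ : 𝓞 F →+* W) (w : W)
    (h : w ^ 2 + φ₀ δ = 0) :
    ∃ ψ : OD F δ →+* W, (∀ a, ψ (AdjoinRoot.of _ a) = φ₀ a) ∧ ψ (AdjoinRoot.root _) = w := by
  refine ⟨AdjoinRoot.lift φ₀ w ?_, fun a => AdjoinRoot.lift_of _, AdjoinRoot.lift_root _⟩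
  rw [Polynomial.eval₂_add, Polynomial.eval₂_pow, Polynomial.eval₂_X, Polynomial.eval₂_C, h]

theorem coe_nmul {L : Type} [Field L] (m : ℕ) (s : 𝓞 L) : (((m : 𝓞 L) * s : 𝓞 L) : L) = m * s := by
  refine (map_mul (algebraMap (𝓞 L) L) _ _).trans ?_
  rw [map_natCast]

theorem coe_nsq {L : Type} [Field L] (m : ℕ) (s : 𝓞 L) : (((m : 𝓞 L) ^ 2 * s : 𝓞 L) : L) = m ^ 2 * s := by
  refine (map_mul (algebraMap (𝓞 L) L) _ _).trans ?_
  rw [map_pow, map_natCast]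

theorem main : HTQG.{u} := by
  intro hNT1 hNT2 hNT3 hNT4 hCMF hWIT hEMB hCMW hSP hOL hRED hST hWEIL p _ L _ _ ϖ hgen habs him
  obtain ⟨c, F, _, _, _, _, d, s, h1, h2, h3, h4, h5, h6, h7, h8, h9, h10⟩ := hCMF p L ϖ hgen habs him
  obtain ⟨r, hr, -⟩ := hNT1 F d h5 1 one_ne_zero
  obtain ⟨W, _, _, _, _, _, iW, hW1, hW2, hW3⟩ := hWIT r hr.prime hr.mod4
  obtain ⟨M, _, _, ε, hM, hE⟩ := hEMB F d h5 r hr L s c h6 h7 h8 h9 h10 W hW1 hW2 iW hW3
  obtain ⟨𝔓, _, h𝔓⟩ := QgNum.exists_max p Fact.out M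
  obtain ⟨Φ, hΦ, hc⟩ := hNT3 p L ϖ c h1 h2 h3 h4 M hM 𝔓 h𝔓
  obtain ⟨h, hh, hφ⟩ := hE Φ hΦ
  obtain ⟨m, x, y, z, hm, hxyz, hxm⟩ := hNT2 F d h5 r hr h hh
  have hm0 : m ≠ 0 := by
    rintro rfl
    exact hm (dvd_zero r)
  have hfinq : Module.finrank ℚ L ≠ 0 := Module.finrank_pos.ne'
  have hfinLM : Finite (L →+* M) := Nat.finite_of_card_ne_zero (by rw [hM]; exact hfinq)
  have hΦg : Nat.card Φ = Module.finrank ℚ F := by
    have := QgNum.card_cm c h2 Φ hΦ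
    rw [hM, h9] at this
    omega
  have hg0 : Module.finrank ℚ F ≠ 0 := Module.finrank_pos.ne'
  -- the abelian scheme over `W`
  obtain ⟨X, _, _, hX, ρ, hρ⟩ := hCMW r hr.prime hr.mod4 W hW1 hW2 iW hW3 F ((m : 𝓞 F) ^ 2 * d) x y z hxyz
    (QgNum.good_mul hr hm)
  obtain ⟨f1, f2, f3⟩ := QgGeo.fibre (spm (algebraMap W (FractionRing W))) X hX
  have hms : (((m : 𝓞 L) * s : 𝓞 L) : L) ^ 2 = -algebraMap F L (((m : 𝓞 F) ^ 2 * d : 𝓞 F)) := by
    rw [coe_nmul, coe_nsq, mul_pow, h6, map_mul, map_pow, map_natCast]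
    ring
  have hs0 : s ≠ 0 := by
    rintro rfl
    obtain ⟨x, hx⟩ := h4
    obtain ⟨a, b, rfl⟩ := h10 x
    apply hx
    have e1 : ((0 : 𝓞 L) : L) = 0 := map_zero (algebraMap (𝓞 L) L)
    rw [e1, mul_zero, add_zero, h8]
  have hms0 : (m : 𝓞 L) * s ≠ 0 := mul_ne_zero (Nat.cast_ne_zero.2 hm0) hs0
  have hcms : c (((m : 𝓞 L) * s : 𝓞 L) : L) = -(((m : 𝓞 L) * s : 𝓞 L) : L) := by
    rw [coe_nmul, map_mul, map_natCast, h7, mul_neg]
  have hLms (x : L) : ∃ a b : F, x = algebraMap F L a + algebraMap F L b * (((m : 𝓞 L) * s : 𝓞 L) : L) := by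
    obtain ⟨a, b, e⟩ := h10 x
    refine ⟨a, b / m, ?_⟩
    have e1 : (m : L) ≠ 0 := Nat.cast_ne_zero.2 hm0
    rw [e, coe_nmul, map_div₀, map_natCast]
    field_simp
  have hchar : CharZero (FractionRing W) :=
    charZero_of_injective_algebraMap (IsFractionRing.injective W (FractionRing W))
  have hEig (φ : L →+* M) (hφΦ : φ ∈ Φ) : Eig (FractionRing W) (Red.bc (spm (algebraMap W (FractionRing W))) X)
      ((bcEnd (spm (algebraMap W (FractionRing W))) X).comp ρ)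
      (ε.comp ((φ.comp (algebraMap (𝓞 L) L)).comp (QgNum.inc ((m : 𝓞 F) ^ 2 * d) ((m : 𝓞 L) * s) hms))) := by
    obtain ⟨φ₀, t, a1, a2, a3⟩ := hφ φ hφΦ
    have hinj : Function.Injective (algebraMap W (FractionRing W)) := IsFractionRing.injective W (FractionRing W)
    obtain ⟨ψ, hψ1, hψ2⟩ := exists_lift ((m : 𝓞 F) ^ 2 * d) φ₀ ((m * t) * iW) (by
      apply hinj
      have e1 : algebraMap W (FractionRing W) ((m * t) * iW) = m * ε (φ s) := by
        rw [← a2, map_mul, map_mul, map_mul, map_natCast, _root_.mul_assoc]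
      have e2 : algebraMap W (FractionRing W) (φ₀ ((m : 𝓞 F) ^ 2 * d)) = -(m * ε (φ s)) ^ 2 := by
        rw [a1, coe_nsq]
        have e3 : ε (φ s) ^ 2 = -ε (φ (algebraMap F L d)) := by
          rw [← map_pow, ← map_pow, h6, map_neg, map_neg]
        simp only [map_mul, map_pow, map_natCast]
        rw [mul_pow, e3]
        ring
      rw [map_add, map_pow, e1, e2, map_zero]
      ring)
    have e4 : (algebraMap W (FractionRing W)).comp ψ =
        ε.comp ((φ.comp (algebraMap (𝓞 L) L)).comp (QgNum.inc ((m : 𝓞 F) ^ 2 * d) ((m : 𝓞 L) * s) hms)) := by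
      refine RingHom.ext fun q => ?_
      obtain ⟨a, b, rfl⟩ := QgNum.exists_repr q
      have e5 : (φ.comp (algebraMap (𝓞 L) L)) (QgNum.inc ((m : 𝓞 F) ^ 2 * d) ((m : 𝓞 L) * s) hms
          (AdjoinRoot.of _ a + AdjoinRoot.of _ b * AdjoinRoot.root _)) =
          φ (algebraMap F L a + algebraMap F L b * (m * s)) := by
        rw [← coe_nmul, ← QgNum.inc_repr hms a b]
        rfl
      rw [RingHom.comp_apply, RingHom.comp_apply, RingHom.comp_apply, e5]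
      simp only [map_add, map_mul, map_natCast, hψ1, hψ2, a1]
      rw [← a2, map_mul]
      ring
    rw [← e4]
    refine hρ ψ (m * t) hψ2 ?_
    rw [hψ1]
    obtain ⟨k, hk⟩ := Ideal.mem_span_singleton'.1 hxm
    have e6 : (m : W) * t - φ₀ x = m * (t - φ₀ h) - φ₀ k * r := by
      have e7 : x = k * r + m * h := by rw [hk]; ring
      rw [e7]
      simp only [map_add, map_mul, map_natCast]
      ring
    rw [e6]
    refine (IsLocalRing.maximalIdeal W).sub_mem (Ideal.mul_mem_left _ _ a3) (Ideal.mul_mem_left _ _ ?_)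
    rw [hW1]
    exact Ideal.mem_span_singleton_self _
  obtain ⟨K', _, _, _, j', A', _, _, _, _, hg', ρ', hρ'⟩ := step1 hSP hOL F ((m : 𝓞 F) ^ 2 * d) L ((m : 𝓞 L) * s)
    hms c hms0 hcms h8 hLms M (FractionRing W) ε (Red.bc (spm (algebraMap W (FractionRing W))) X)
    (Module.finrank ℚ F) f3 ((bcEnd (spm (algebraMap W (FractionRing W))) X).comp ρ) Φ hEig
  exact step2 hNT4 hRED hST hWEIL p L ϖ habs M 𝔓 h𝔓 Φ hc (Module.finrank ℚ F) hg0 h9 hΦg K' j' A' hg' ρ' hρ'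

end K613.QgMain
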